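import Cfsg.Agent.FS.N.C2.PcK

/-!
# S5288, class two: `D8 × D8 × D8` (helper85, project FS)
-/

set_option autoImplicit false

namespace Cfsg.Agent.FS.N.C2.Mod

open Cfsg.Agent.FS.Pc

/-- the presentation of `D8 × D8 × D8`: generators `z0 z1 z2 a0 a1 a2 b0 b1 b2` -/
def R1 : ℕ :=
  0x800040002400100008000400020001000000400020001200080004000200010000002000100009000400020001000000100008000400020001000000080004000200010000000400020001000000020001000000010000

/-- the structure constants -/
def cD (i j : ℕ) : ℕ := if i = j then 2 ^ i else 0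

theorem relOK_R1 : RelOK cD R1 := by
  unfold RelOK
  decide +kernel

theorem boxD8 : BoxD8 R1 := by
  intro G _ _ hG a b z ha hb hz hzc hab haa hbb hne hgen
  let f : ℕ → Fin 3 := fun i => ⟨i % 3, Nat.mod_lt _ (by norm_num)⟩
  have hf : ∀ i : Fin 3, f i = i := fun i => Fin.ext (Nat.mod_eq_of_lt i.2)
  have hfi : ∀ i < 3, ∀ j < 3, f i = f j → i = j := fun i hi j hj h => by
    have h1 : i % 3 = j % 3 := congrArg Fin.val h
    omega
  refine ⟨nine (fun i => z (f i)) (fun i => a (f i)) (fun i => b (f i)), pc16_of hG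
    (isPc_nine relOK_R1 (by decide) ⟨fun i _ => hz _, fun i _ x => (hzc _ x).symm⟩ (fun i _ => ha _)
      (fun i _ => hb _) (fun i _ j _ => haa _ _) (fun i _ j _ => hbb _ _) fun i hi j hj => ?_) (by norm_num)
      fun H hH => ?_⟩
  · unfold cD
    by_cases h : i = j
    · subst h
      have h1 := el_add (fun i => z (f i)) hi (Nat.two_pow_pos i)
      rw [Nat.add_zero, el_nil, mul_one] at h1
      rw [if_pos rfl, h1, ← mul_assoc]
      exact hab _
    · rw [if_neg h, el_nil, mul_one]
      exact hne _ _ fun h1 => h (hfi i hi j hj h1)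
  · rw [eq_top_iff, ← hgen, Subgroup.closure_le]
    rintro _ (⟨i, rfl⟩ | ⟨i, rfl⟩)
    · have h1 := hH (i + 3) (by omega)
      rwa [nine_a _ _ _ i.2, hf] at h1
    · have h1 := hH (i + 6) (by omega)
      rwa [nine_b, hf] at h1

end Cfsg.Agent.FS.N.C2.Mod
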