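import Cfsg.Agent.FS.N.C2.TV

/-!
# S5288, class two: the spread lemma (helper95, project FS)
-/

set_option autoImplicit false

namespace Cfsg.Agent.FS.N.C2.Mod

open Cfsg.Agent.FS.Th Subgroup

variable {V : Type} [CommGroup V] {Γ E E' : Subgroup (MulAut V)} {Z Z' : Subgroup V} {q : ℕ}

/-- a group of automorphisms with the common fixed subgroup `Z` -/
structure Cf (Γ : Subgroup (MulAut V)) (q : ℕ) (E : Subgroup (MulAut V)) (Z : Subgroup V) : Prop where
  le : E ≤ Γ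
  mem : ∀ σ ∈ E, ∀ x, cm σ x ∈ Z
  fix : ∀ σ ∈ E, σ ≠ 1 → ∀ x, σ x = x ↔ x ∈ Z
  card : Nat.card E = q
  index : Z.index = q

theorem Cf.conj (h : Cf Γ q E Z) {a : MulAut V} (ha : a ∈ Γ) :
    Cf Γ q (E.map (MulAut.conj a).toMonoidHom) (Z.comap (a⁻¹ : MulAut V).toMonoidHom) where
  le := by
    rintro _ ⟨σ, hσ, rfl⟩
    exact mul_mem (mul_mem ha (h.le hσ)) (inv_mem ha)
  mem := by
    rintro _ ⟨σ, hσ, rfl⟩ x
    change a⁻¹ (cm (a * σ * a⁻¹) x) ∈ Z
    rw [cm_conj, MulAut.inv_apply_self]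
    exact h.mem σ hσ _
  fix := by
    rintro _ ⟨σ, hσ, rfl⟩ h1 x
    exact ((a⁻¹ : MulAut V).injective.eq_iff.symm.trans (by simp)).trans
      (h.fix σ hσ (fun e => h1 (by rw [e, map_one])) (a⁻¹ x))
  card := (card_map_of_injective (MulAut.conj a).injective).trans h.card
  index := (index_comap_of_surjective _ (a⁻¹ : MulAut V).surjective).trans h.index

theorem Cf.fix' (h : Cf Γ q E Z) {σ : MulAut V} (hσ : σ ∈ E) {x : V} (hx : x ∈ Z) : σ x = x := by
  by_cases e : σ = 1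
  · rw [e, MulAut.one_apply]
  · exact (h.fix σ hσ e x).2 hx

variable (hV : ∀ x : V, x * x = 1)

include hV

theorem Cf.kill (h : Cf Γ q E Z) {σ : MulAut V} (hσ : σ ∈ E) {x : V} (hx : x ∈ Z) : cm σ x = 1 :=
  (mem_ker_cm hV σ x).2 (h.fix' hσ hx)

theorem Cf.add (h : Cf Γ q E Z) {σ τ : MulAut V} (hσ : σ ∈ E) (hτ : τ ∈ E) (x : V) :
    cm (σ * τ) x = cm σ x * cm τ x := by
  rw [cm_mul hV, h.kill hV hσ (h.mem τ hτ x), mul_one]

variable [Finite V]

theorem Cf.eq (hS : Same Γ) (hq : q ≤ 4) (h : Cf Γ q E Z) (h' : Cf Γ q E' Z') {u : MulAut V} (hu : u ∈ E') {x : V}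
    (hx : cm u x ∈ Z) (h1 : cm u x ≠ 1) : Z = Z' := by
  have u1 : u ≠ 1 := fun e => h1 (by rw [e, cm_apply, MulAut.one_apply, hV])
  have h2 : Nat.card (cm u).range = q := by
    rw [← index_ker, ← h'.index]
    exact congrArg _ (Subgroup.ext fun y => (mem_ker_cm hV u y).trans (h'.fix u hu u1 y))
  obtain ⟨v, hv⟩ : ∃ v, ∀ y, cm u y = 1 ∨ cm u y = cm u x ∨ cm u y = v ∨ cm u y = cm u x * v := by
    by_cases h3 : ∀ y, cm u y = 1 ∨ cm u y = cm u x
    · exact ⟨1, fun y => (h3 y).imp_right Or.inl⟩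
    obtain ⟨y, h3⟩ := not_forall.1 h3
    obtain ⟨v, hv⟩ := four_cases hV (U := (cm u).range) (e := cm u x) (by
      obtain ⟨k, hk⟩ := (IsPGroup.to_subgroup (p := 2) (fun x => ⟨1, by rw [pow_one, pow_two, hV]⟩)
        (cm u).range).exists_card_eq
      have h4 : 2 < Nat.card (cm u).range := by
        have := Fintype.ofFinite (cm u).range
        rw [Nat.card_eq_fintype_card, Fintype.two_lt_card_iff]
        exact ⟨1, ⟨_, x, rfl⟩, ⟨_, y, rfl⟩, fun e => h1 (congrArg Subtype.val e).symm,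
          fun e => h3 (Or.inl (congrArg Subtype.val e).symm), fun e => h3 (Or.inr (congrArg Subtype.val e).symm)⟩
      have h5 : 3 ≠ 2 ^ k := by
        rcases k with _ | k <;> omega
      omega) ⟨x, rfl⟩ h1
    exact ⟨v, fun y => hv _ ⟨y, rfl⟩⟩
  obtain ⟨t, ht, t1, h3⟩ : ∃ t ∈ E, t ≠ 1 ∧ (cm u (cm t v) = 1 ∨ cm u (cm t v) = cm u x) := by
    by_contra hn
    push Not at hn
    let g : E →* (cm u).range := MonoidHom.mk' (fun t => ⟨cm u (cm t v), _, rfl⟩) fun a b =>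
      Subtype.ext ((congrArg (cm u) (h.add hV a.2 b.2 v)).trans (map_mul _ _ _))
    have h3 : Function.Injective g := (injective_iff_map_eq_one g).2 fun a e => by_contra fun a1 =>
      (hn a a.2 fun e => a1 (Subtype.ext e)).1 (congrArg Subtype.val e)
    obtain ⟨a, ha⟩ := (h3.bijective_of_nat_card_le (h2.trans h.card.symm).le).2 ⟨_, x, rfl⟩
    refine (hn a a.2 fun e => h1 ?_).2 (congrArg Subtype.val ha)
    rw [show a = 1 from Subtype.ext e, map_one] at ha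
    exact (congrArg Subtype.val ha).symm
  have h4 := h.kill hV ht hx
  have h5 := two hV (s := t) (u := u) (fun y => h.kill hV ht (h.mem t ht y)) (fun y => h'.kill hV hu (h'.mem u hu y))
    fun y => by
      have h5 : cm t (cm u (cm t v)) = 1 := h3.elim (fun e => by rw [e, map_one]) fun e => by rw [e, h4]
      rcases hv y with e | e | e | e <;> rw [e]
      · rw [map_one, map_one, map_one]
      · rw [h4, map_one, map_one]
      · exact h5
      · rw [map_mul, h4, one_mul, h5]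
  ext y
  rw [← h.fix t ht t1, ← h'.fix u hu u1]
  exact ⟨hS t (h.le ht) u (h'.le hu) t1 u1 h5 y, hS u (h'.le hu) t (h.le ht) u1 t1 (Set.pair_comm t u ▸ h5) y⟩

/-- the conjugates cover -/
theorem Cf.cover (hS : Same Γ) (hq : q ≤ 4) (h : Cf Γ q E Z) (h' : Cf Γ q E' Z') (hn : Z' ≠ Z) {v : V} (hv : v ∉ Z) :
    ∃ s ∈ E, s v ∈ Z' := by
  let g : E →* V ⧸ Z' := MonoidHom.mk' (fun t => QuotientGroup.mk (cm t v)) fun a b =>
    (congrArg _ (h.add hV a.2 b.2 v)).trans (QuotientGroup.mk_mul _ _ _)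
  have h1 : Function.Injective g := (injective_iff_map_eq_one g).2 fun a e => Subtype.ext (by_contra fun a1 =>
    hn (h'.eq hV hS hq h a.2 ((QuotientGroup.eq_one_iff _).1 e) fun e =>
      hv ((h.fix a a.2 a1 v).1 ((mem_ker_cm hV _ v).1 e))))
  obtain ⟨a, ha⟩ := (h1.bijective_of_nat_card_le (h'.index.trans h.card.symm).le).2 v
  have h2 := QuotientGroup.eq.1 ha.symm
  rw [inv_eq_of_mul_eq_one_left (hV v), ← ap hV] at h2
  exact ⟨a, a.2, h2⟩

omit hV [Finite V] in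
/-- **the spread lemma** -/
theorem boxSp : BoxSp := by
  intro V _ _ hV Γ E Z hS h1 h2 h3 h4 hq a ha ⟨z, hz, h5⟩
  have h : Cf Γ Z.index E Z := ⟨h1, h2, h3, h4, rfl⟩
  have hn : Z.comap (a⁻¹ : MulAut V).toMonoidHom ≠ Z := fun e =>
    h5 (e.le (show a⁻¹ (a z) ∈ Z by rwa [MulAut.inv_apply_self]))
  refine ⟨fun σ hσ x hx => by_contra fun e => hn ((h.conj ha).eq hV hS hq h hσ hx e), fun b hb y hy hya => ?_⟩
  have hb' := h.conj hb
  obtain ⟨u, hu, u1⟩ := (bot_or_exists_ne_one (E.map (MulAut.conj b).toMonoidHom)).resolve_left fun e => by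
    have h6 := hb'.card
    rw [e, card_bot, eq_comm, index_eq_one] at h6
    exact h5 (h6 ▸ mem_top _)
  obtain ⟨x, hx⟩ : ∃ x, cm u x ≠ 1 := not_forall.1 fun e =>
    u1 (MulEquiv.ext fun x => (mem_ker_cm hV u x).1 (e x))
  by_cases h6 : cm u x ∈ Z
  · exact (h.eq hV hS hq hb' hu h6 hx).le hy
  obtain ⟨s, hs, h7⟩ := h.cover hV hS hq (h.conj ha) hn h6
  refine (((h.conj ha).conj (inv_mem (h1 hs))).eq hV hS hq hb' hu (by rw [inv_inv]; exact h7) hx).le ?_
  rw [inv_inv]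
  change a⁻¹ (s y) ∈ Z
  rwa [h.fix' hs hy]

end Cfsg.Agent.FS.N.C2.Mod
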