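import Cfsg.Agent.FS.N.C2.Defs

/-!
# S5288, class two: recognition of `UT₃(8)` (helper31, project FS)
-/

set_option autoImplicit false
set_option maxHeartbeats 400000

namespace Cfsg.Agent.FS.N.C2.UT

open Cfsg.Agent.FS.Pc

/-- the relations of `UT₃(8)` -/
def R2 : ℕ := 0x80004000260013000c0004000200010000004000230014000a0004000200010000002400120009000400020001000000100008000400020001000000080004000200010000000400020001000000020001000000010000

/-- the multiplication table of the field with eight elements on `1, x, x ^ 2` -/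
def std (s t : ℕ) : ℕ :=
  if s + t = 0 then 1 else if s + t = 1 then 2 else if s + t = 2 then 4 else if s + t = 3 then 3 else 6

theorem std_lt (s t : ℕ) : std s t < 2 ^ 3 := by
  unfold std
  split_ifs <;> norm_num

theorem R2_pw : ∀ k, k < 9 → get 16 R2 (tri k k) = 0 := by decide +kernel

theorem R2_cj : ∀ k, k < 9 → ∀ j, j < k →
    get 16 R2 (tri k j) = 2 ^ j + (if 6 ≤ k ∧ 3 ≤ j ∧ j < 6 then std (k - 6) (j - 3) else 0) := by decide +kernel

/-- the combination with code `m` of three codes -/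
def xs (c0 c1 c2 m : ℕ) : ℕ :=
  (bif m.testBit 2 then c2 else 0) ^^^ ((bif m.testBit 1 then c1 else 0) ^^^ (bif m.testBit 0 then c0 else 0))

/-- the normalised bilinear map -/
def bil (u v s t p q : ℕ) : ℕ := xs (xs 1 2 4 q) (xs 2 u v q) (xs 4 s t q) p

/-- three codes -/
def tr (c0 c1 c2 i : ℕ) : ℕ := if i = 0 then c0 else if i = 1 then c1 else c2

set_option synthInstance.maxSize 2000 in
theorem fin : ∀ u, u < 8 → ∀ v, v < 8 → ∀ s, s < 8 → ∀ t, t < 8 →
    (∃ p, p < 8 ∧ ∃ q, q < 8 ∧ p ≠ 0 ∧ q ≠ 0 ∧ bil u v s t p q = 0) ∨ ∃ p, p < 8 ∧ ∃ q, q < 8 ∧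
      (∀ i, i < 3 → ∀ j, j < 3 → bil u v s t (tr 1 p q i) (tr 1 p q j) = xs 1 p q (std i j)) ∧
      ∀ m, m < 8 → ∃ m', m' < 8 ∧ m = xs 1 p q m' := by decide +kernel

theorem bil_one : ∀ p, p < 8 → xs 1 2 4 p = p := by decide +kernel

theorem xs_one (a b c : ℕ) : xs a b c 1 = a := (Nat.zero_xor _).trans (Nat.zero_xor _)

variable {G : Type} [Group G]

theorem el_three (y : ℕ → G) (m : ℕ) : el y 3 m = (bif m.testBit 2 then y 2 else 1) *
    ((bif m.testBit 1 then y 1 else 1) * (bif m.testBit 0 then y 0 else 1)) := by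
  rw [el_succ, el_succ, el_succ, el_zero, mul_one]

theorem el_xs {z y : ℕ → G} (h : Tails z 3) {c0 c1 c2 : ℕ} (h0 : y 0 = el z 3 c0) (h1 : y 1 = el z 3 c1)
    (h2 : y 2 = el z 3 c2) (m : ℕ) : el y 3 m = el z 3 (xs c0 c1 c2 m) := by
  rw [el_three, xs, h.xor _ _ 3 le_rfl, h.xor _ _ 3 le_rfl, h0, h1, h2]
  cases m.testBit 2 <;> cases m.testBit 1 <;> cases m.testBit 0 <;> simp only [cond_true, cond_false, el_nil]

theorem el_one (y : ℕ → G) : el y 3 1 = y 0 := by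
  rw [el_three]
  exact (one_mul _).trans (one_mul _)

theorem el_two (y : ℕ → G) : el y 3 2 = y 1 := by
  rw [el_three]
  exact (one_mul _).trans (mul_one _)

theorem el_four (y : ℕ → G) : el y 3 4 = y 2 := by
  rw [el_three]
  exact (congrArg _ (one_mul _)).trans (mul_one _)

theorem el_map {B : Subgroup G} {f : G → G} (h1 : f 1 = 1) (hm : ∀ x ∈ B, ∀ y ∈ B, f (x * y) = f x * f y)
    {g : ℕ → G} (a : ℕ) : ∀ n, (∀ i, i < n → g i ∈ B) → f (el g n a) = el (fun i => f (g i)) n a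
  | 0, _ => h1
  | n + 1, h => by
    have h2 : ∀ i, i < n → g i ∈ B := fun i hi => h i (Nat.lt_succ_of_lt hi)
    rw [el_succ, el_succ, ← el_map h1 hm a n h2]
    cases a.testBit n
    · rw [cond_false, cond_false, one_mul, one_mul]
    · exact hm _ (h n (Nat.lt_succ_self _)) _ (el_mem a n h2)

theorem exists_not_mem [Finite G] (Z : Subgroup G) (l : List G) (h : l.length < Nat.card Z) : ∃ z ∈ Z, z ∉ l := by
  classical
  by_contra hn
  push Not at hn
  have h1 : (Z : Set G) ⊆ (l.toFinset : Set G) := fun z hz => by simpa using hn z hz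
  have h2 := Set.ncard_le_ncard h1 (Set.toFinite _)
  rw [Set.ncard_coe_finset] at h2
  have h3 : Nat.card Z = (Z : Set G).ncard := rfl
  have h4 := List.toFinset_card_le l
  omega

/-- a basis of an elementary abelian central subgroup of order eight -/
theorem basis [Finite G] {Z : Subgroup G} (hs : ∀ x ∈ Z, x * x = 1) (hc : ∀ z ∈ Z, ∀ g, g * z = z * g)
    (h8 : Nat.card Z = 8) {e : G} (he : e ∈ Z) (h1 : e ≠ 1) : ∃ z : ℕ → G, z 0 = e ∧ (∀ i, z i ∈ Z) ∧
      (∀ m, m < 8 → el z 3 m = 1 → m = 0) ∧ ∀ x ∈ Z, ∃ m, m < 8 ∧ x = el z 3 m := by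
  classical
  obtain ⟨x, hx, hx'⟩ := exists_not_mem Z [1, e] (by rw [h8]; norm_num)
  obtain ⟨w, hw, hw'⟩ := exists_not_mem Z [1, e, x, x * e] (by rw [h8]; norm_num)
  simp only [List.mem_cons, List.not_mem_nil, or_false, not_or] at hx' hw'
  let z : ℕ → G := fun i => if i = 0 then e else if i = 1 then x else w
  have hz : ∀ i, z i ∈ Z := fun i => by
    simp only [z]
    split_ifs <;> assumption
  have ht : Tails z 3 := ⟨fun i _ => hs _ (hz i), fun i _ g => (hc _ (hz i) g).symm⟩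
  have hq : ∀ {p q : G}, q ∈ Z → p * q = 1 → p = q := fun {p q} hq h =>
    mul_right_cancel (h.trans (hs q hq).symm)
  have hi : ∀ m, m < 8 → el z 3 m = 1 → m = 0 := fun m hm h => by
    rw [el_three] at h
    interval_cases m
    · rfl
    · exact absurd (((one_mul _).trans (one_mul _)).symm.trans h) h1
    · exact absurd (((one_mul _).trans (mul_one _)).symm.trans h) hx'.1
    · exact absurd (hq he ((one_mul _).symm.trans h)) hx'.2
    · exact absurd (((congrArg _ (one_mul _)).trans (mul_one _)).symm.trans h) hw'.1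
    · exact absurd (hq he ((congrArg _ (one_mul _)).symm.trans h)) hw'.2.1
    · exact absurd (hq hx ((congrArg _ (mul_one _)).symm.trans h)) hw'.2.2.1
    · exact absurd (hq (Z.mul_mem hx he) h) hw'.2.2.2
  refine ⟨z, rfl, hz, hi, fun g hg => ?_⟩
  by_contra hn
  push Not at hn
  have h2 : ((insert g ((Finset.range 8).image (el z 3)) : Finset G) : Set G) ⊆ (Z : Set G) := fun y hy => by
    rcases Finset.mem_insert.1 (Finset.mem_coe.1 hy) with rfl | hy
    · exact hg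
    · obtain ⟨m, -, rfl⟩ := Finset.mem_image.1 hy
      exact el_mem m 3 fun i _ => hz i
  have h3 := Set.ncard_le_ncard h2 (Set.toFinite _)
  have h4 : Nat.card Z = (Z : Set G).ncard := rfl
  rw [Set.ncard_coe_finset, Finset.card_insert_of_notMem, Finset.card_image_of_injOn, Finset.card_range] at h3
  · omega
  · intro p hp q hq' hpq
    have hp8 : p < 2 ^ 3 := by simpa using hp
    have hq8 : q < 2 ^ 3 := by simpa using hq'
    refine Nat.eq_of_xor_eq_zero (hi _ (Nat.xor_lt_two_pow hp8 hq8) ?_)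
    rw [ht.xor p q 3 le_rfl, hpq]
    exact hs _ (el_mem q 3 fun i _ => hz i)
  · intro hy
    obtain ⟨m, hm, h⟩ := Finset.mem_image.1 hy
    exact hn m (Finset.mem_range.1 hm) h.symm

/-- the commutator -/
def kk (a b : G) : G := a * b * a⁻¹ * b⁻¹

/-- the hypotheses -/
structure Sit (A B Z : Subgroup G) : Prop where
  sa : ∀ x ∈ A, x * x = 1
  sb : ∀ x ∈ B, x * x = 1
  cz : ∀ z ∈ Z, ∀ g, g * z = z * g
  za : Z ≤ A
  zb : Z ≤ B
  c8 : Nat.card Z = 8
  ca : Nat.card A = 64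
  cb : Nat.card B = 64
  km : ∀ a ∈ A, ∀ b ∈ B, kk a b ∈ Z
  ns : ∀ a ∈ A, ∀ b ∈ B, a * b = b * a → a ∈ Z ∨ b ∈ Z

theorem comm_of_sq {A : Subgroup G} (h : ∀ x ∈ A, x * x = 1) {x y : G} (hx : x ∈ A) (hy : y ∈ A) : x * y = y * x := by
  have h1 := h _ (A.mul_mem hx hy)
  calc x * y = (x * y)⁻¹ := eq_inv_of_mul_eq_one_left h1
    _ = y * x := by rw [mul_inv_rev, inv_eq_of_mul_eq_one_left (h x hx), inv_eq_of_mul_eq_one_left (h y hy)]

theorem kk_eq_one {a b : G} : kk a b = 1 ↔ a * b = b * a := by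
  unfold kk
  rw [mul_inv_eq_one, mul_inv_eq_iff_eq_mul]

namespace Sit

variable {A B Z : Subgroup G}

theorem sz (h : Sit A B Z) (x : G) (hx : x ∈ Z) : x * x = 1 := h.sa x (h.za hx)

theorem kk_symm (h : Sit A B Z) {a b : G} (ha : a ∈ A) (hb : b ∈ B) : kk b a = kk a b := by
  rw [← inv_eq_of_mul_eq_one_left (h.sz _ (h.km a ha b hb))]
  unfold kk
  group

theorem symm (h : Sit A B Z) : Sit B A Z :=
  ⟨h.sb, h.sa, h.cz, h.zb, h.za, h.c8, h.cb, h.ca, fun b hb a ha => h.kk_symm ha hb ▸ h.km a ha b hb,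
    fun b hb a ha hc => (h.ns a ha b hb hc.symm).symm⟩

theorem mul_right (h : Sit A B Z) {a : G} (ha : a ∈ A) (b : G) (b' : G) (hb' : b' ∈ B) :
    kk a (b * b') = kk a b * kk a b' := by
  have h1 := h.cz _ (h.km a ha b' hb') b
  calc kk a (b * b') = kk a b * (b * kk a b') * b⁻¹ := by unfold kk; group
    _ = kk a b * kk a b' := by rw [h1]; group

theorem el_right (h : Sit A B Z) {a : G} (ha : a ∈ A) {b : ℕ → G} (hb : ∀ i, i < 3 → b i ∈ B) (q : ℕ) :
    kk a (el b 3 q) = el (fun i => kk a (b i)) 3 q :=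
  el_map (B := B) (f := kk a) (kk_eq_one.2 (by rw [mul_one, one_mul])) (fun x _ y hy => h.mul_right ha x y hy) q 3 hb

theorem el_left (h : Sit A B Z) {b : G} (hb : b ∈ B) {a : ℕ → G} (ha : ∀ i, i < 3 → a i ∈ A) (p : ℕ) :
    kk (el a 3 p) b = el (fun i => kk (a i) b) 3 p := by
  rw [← h.kk_symm (el_mem p 3 ha) hb, h.symm.el_right hb ha]
  exact el_congr_g p 3 fun i hi => h.kk_symm (ha i hi) hb

theorem not_mem (h : Sit A B Z) {a b : G} (h1 : kk a b ≠ 1) : a ∉ Z ∧ b ∉ Z :=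
  ⟨fun ha => h1 (kk_eq_one.2 (h.cz a ha b).symm), fun hb => h1 (kk_eq_one.2 (h.cz b hb a))⟩

theorem surj [Finite G] (h : Sit A B Z) {a : G} (ha : a ∈ A) (haZ : a ∉ Z) {z : G} (hz : z ∈ Z) :
    ∃ b ∈ B, kk a b = z := by
  let f : B →* G := MonoidHom.mk' (fun b => kk a b) fun x y => h.mul_right ha x y y.2
  have h1 : f.ker = Z.subgroupOf B := by
    ext b
    rw [MonoidHom.mem_ker, Subgroup.mem_subgroupOf]
    exact ⟨fun hb => (h.ns a ha b b.2 (kk_eq_one.1 hb)).resolve_left haZ, fun hb => kk_eq_one.2 (h.cz _ hb a)⟩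
  have h2 : Nat.card f.ker = 8 := by
    rw [h1, Nat.card_congr (Subgroup.subgroupOfEquivOfLe h.zb).toEquiv, h.c8]
  have h3 := f.ker.card_mul_index
  rw [h2, Subgroup.index_ker, h.cb] at h3
  have h4 : f.range ≤ Z := by
    rintro _ ⟨b, rfl⟩
    exact h.km a ha b b.2
  have h5 : f.range = Z := Subgroup.eq_of_le_of_card_ge h4 (by rw [h.c8]; omega)
  obtain ⟨b, hb⟩ := MonoidHom.mem_range.1 (h5 ▸ hz : z ∈ f.range)
  exact ⟨b, b.2, hb⟩

theorem gen (h : Sit A B Z) {H : Subgroup G} (hZ : Z ≤ H) {b : ℕ → G} (hb : ∀ i, i < 3 → b i ∈ B)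
    (hH : ∀ i, i < 3 → b i ∈ H) {a : G} (ha : a ∈ A) (haZ : a ∉ Z)
    (hs : ∀ z ∈ Z, ∃ m, z = el (fun i => kk a (b i)) 3 m) : B ≤ H := fun x hx => by
  obtain ⟨m, hm⟩ := hs _ (h.km a ha x hx)
  have h1 : el b 3 m ∈ B := el_mem m 3 hb
  have h2 : kk a (el b 3 m * x) = 1 := by
    rw [h.mul_right ha _ _ hx, h.el_right ha hb, ← hm]
    exact h.sz _ (h.km a ha x hx)
  have h3 := hZ ((h.ns a ha _ (B.mul_mem h1 hx) (kk_eq_one.1 h2)).resolve_left haZ)
  exact (H.mul_mem_cancel_left (el_mem m 3 hH)).1 h3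

theorem top [Finite G] (h : Sit A B Z) (hG : Nat.card G = 2 ^ 9) {H : Subgroup G} (hA : A ≤ H) (hB : B ≤ H)
    {b : G} (hb : b ∈ B) (hbZ : b ∉ Z) : H = ⊤ := by
  have h1 : A ⊓ B = Z := le_antisymm (fun g hg => (h.ns g hg.1 b hb (comm_of_sq h.sb hg.2 hb)).resolve_right hbZ)
    (le_inf h.za h.zb)
  have h2 : ∀ {P Q : Subgroup G}, P ≤ Q → Nat.card P * P.relIndex Q = Nat.card Q := fun {P Q} hPQ => by
    rw [← Nat.card_congr (Subgroup.subgroupOfEquivOfLe hPQ).toEquiv]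
    exact (P.subgroupOf Q).card_mul_index
  have h3 := h2 h.zb
  have h4 := h2 hA
  have h5 : A.relIndex B ≤ A.relIndex H :=
    Subgroup.relIndex_le_of_le_right hB Subgroup.index_ne_zero_of_finite
  rw [← Subgroup.inf_relIndex_right, h1] at h5
  rw [h.c8, h.cb] at h3
  rw [h.ca] at h4
  refine Subgroup.eq_of_le_of_card_ge le_top ?_
  rw [Subgroup.card_top, hG]
  omega

/-- standard generators give the presentation -/
theorem pc_of [Finite G] (h : Sit A B Z) (hG : Nat.card G = 2 ^ 9) {a b z : ℕ → G} (ha : ∀ i, i < 3 → a i ∈ A)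
    (hb : ∀ i, i < 3 → b i ∈ B) (hz : ∀ i, i < 3 → z i ∈ Z)
    (hk : ∀ i, i < 3 → ∀ j, j < 3 → kk (a i) (b j) = el z 3 (std i j)) (h0 : z 0 ≠ 1)
    (hs : ∀ x ∈ Z, ∃ m, x = el z 3 m) : ∃ y : ℕ → G, Pc16 9 R2 y := by
  let y : ℕ → G := fun i => if i < 3 then z i else if i < 6 then b (i - 3) else a (i - 6)
  have y1 : ∀ i, i < 3 → y i = z i := fun i hi => if_pos hi
  have y2 : ∀ i, 3 ≤ i → i < 6 → y i = b (i - 3) := fun i h1 h2 => (if_neg (by omega)).trans (if_pos h2)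
  have y3 : ∀ i, 6 ≤ i → y i = a (i - 6) := fun i h1 => (if_neg (by omega)).trans (if_neg (by omega))
  have yB : ∀ i, i < 6 → y i ∈ B := fun i hi => by
    by_cases h1 : i < 3
    · rw [y1 i h1]; exact h.zb (hz i h1)
    · rw [y2 i (by omega) hi]; exact hb _ (by omega)
  have yA : ∀ i, 6 ≤ i → i < 9 → y i ∈ A := fun i h1 h2 => by rw [y3 i h1]; exact ha _ (by omega)
  have hel : ∀ k j m, j < k → m < 2 ^ j → el y k (2 ^ j + m) = y j * el y j m := fun k j m hj hm => by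
    rw [el_of_lt y (m := j + 1) (by rw [Nat.pow_succ]; omega) hj, two_pow_add_eq_xor hm, el_top y hm]
  have hp : IsPc y 0 9 16 R2 := by
    refine ⟨fun i hi => absurd hi (Nat.not_lt_zero i), fun i hi => absurd hi (Nat.not_lt_zero i), fun k hk => ?_,
      fun k hk9 j hj => ?_⟩
    · rw [Nat.zero_add, R2_pw k hk, el_nil]
      by_cases h1 : k < 6
      · exact h.sb _ (yB k h1)
      · exact h.sa _ (yA k (by omega) hk)
    · rw [Nat.zero_add, Nat.zero_add, R2_cj k hk9 j hj]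
      by_cases h1 : 6 ≤ k ∧ 3 ≤ j ∧ j < 6
      · have h2 : std (k - 6) (j - 3) < 2 ^ j :=
          (std_lt _ _).trans_le (Nat.pow_le_pow_right (by norm_num) h1.2.1)
        rw [if_pos h1, hel k j _ hj h2, el_of_lt y (std_lt _ _) h1.2.1, el_congr_g _ 3 y1,
          ← hk _ (by omega) _ (by omega), y2 j h1.2.1 h1.2.2, y3 k h1.1,
          ← h.kk_symm (ha _ (by omega)) (hb _ (by omega)), ← mul_assoc,
          h.cz _ (h.symm.km _ (hb _ (by omega)) _ (ha _ (by omega)))]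
        unfold kk
        group
      · rw [if_neg h1, hel k j 0 hj (Nat.two_pow_pos j), el_nil, mul_one]
        by_cases h2 : j < 3
        · rw [y1 j h2]
          exact (h.cz _ (hz j h2) _).symm
        · by_cases h3 : k < 6
          · exact comm_of_sq h.sb (yB j (by omega)) (yB k h3)
          · exact comm_of_sq h.sa (yA j (by omega) (by omega)) (yA k (by omega) hk9)
  have hmul : ∀ {p q : G}, (∃ m, m < 2 ^ 9 ∧ p = el y 9 m) → (∃ m, m < 2 ^ 9 ∧ q = el y 9 m) →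
      ∃ m, m < 2 ^ 9 ∧ p * q = el y 9 m := by
    rintro _ _ ⟨m, hm, rfl⟩ ⟨n, hn, rfl⟩
    exact ⟨_, hp.mul (by norm_num) (x := m) (y := n) hm hn⟩
  let S : Submonoid G := ⟨⟨{g | ∃ m, m < 2 ^ 9 ∧ g = el y 9 m}, hmul⟩, ⟨0, by norm_num, (el_nil y 9).symm⟩⟩
  let H : Subgroup G := ⟨S, fun {x} hx => by
    have h1 : x * x ^ 511 = 1 := by
      rw [← pow_succ', show 511 + 1 = Nat.card G by rw [hG]; norm_num, pow_card_eq_one']
    rw [inv_eq_of_mul_eq_one_right h1]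
    exact S.pow_mem hx 511⟩
  have yH : ∀ i, i < 9 → y i ∈ H := fun i hi => ⟨2 ^ i + 0, Nat.pow_lt_pow_right (by norm_num) hi, by
    rw [hel 9 i 0 hi (Nat.two_pow_pos i), el_nil, mul_one]⟩
  have hZ : Z ≤ H := fun x hx => by
    obtain ⟨m, rfl⟩ := hs x hx
    exact el_mem m 3 fun i hi => y1 i hi ▸ yH i (by omega)
  have e0 : ∀ i, i < 3 → el z 3 (std 0 i) = z i ∧ el z 3 (std i 0) = z i := fun i hi => by
    interval_cases i
    exacts [⟨el_one z, el_one z⟩, ⟨el_two z, el_two z⟩, ⟨el_four z, el_four z⟩]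
  have h00 := h.not_mem (a := a 0) (b := b 0) (by rw [hk 0 (by norm_num) 0 (by norm_num), (e0 0 (by norm_num)).1]; exact h0)
  have hB : B ≤ H := h.gen hZ hb (fun i hi => by have := yH (i + 3) (by omega); rwa [y2 _ (by omega) (by omega)] at this)
    (ha 0 (by norm_num)) h00.1 fun x hx => by
      obtain ⟨m, hm⟩ := hs x hx
      exact ⟨m, hm.trans (el_congr_g m 3 fun i hi => by rw [hk 0 (by norm_num) i hi, (e0 i hi).1])⟩
  have hA : A ≤ H := h.symm.gen hZ ha
    (fun i hi => by have := yH (i + 6) (by omega); rwa [y3 _ (by omega)] at this)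
    (hb 0 (by norm_num)) h00.2 fun x hx => by
      obtain ⟨m, hm⟩ := hs x hx
      exact ⟨m, hm.trans (el_congr_g m 3 fun i hi => by
        rw [h.kk_symm (ha i hi) (hb 0 (by norm_num)), hk i hi 0 (by norm_num), (e0 i hi).2])⟩
  have hT := h.top hG hA hB (hb 0 (by norm_num)) h00.2
  exact ⟨y, hG, hp, fun g => (hT ▸ Subgroup.mem_top g : g ∈ H)⟩

theorem main [Finite G] (h : Sit A B Z) (hG : Nat.card G = 2 ^ 9) : ∃ y : ℕ → G, Pc16 9 R2 y := by
  have hex : ∀ {P : Subgroup G}, Nat.card P = 64 → ∃ x ∈ P, x ∉ Z := fun {P} hP => by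
    by_contra hn
    push Not at hn
    have := Subgroup.card_le_of_le (show P ≤ Z from hn)
    rw [hP, h.c8] at this
    omega
  obtain ⟨a0, ha0, ha0'⟩ := hex h.ca
  obtain ⟨b0, hb0, hb0'⟩ := hex h.cb
  have he : kk a0 b0 ≠ 1 := fun h1 => (h.ns a0 ha0 b0 hb0 (kk_eq_one.1 h1)).elim ha0' hb0'
  obtain ⟨z, hz0, hz, hi, hs⟩ := basis h.sz h.cz h.c8 (h.km a0 ha0 b0 hb0) he
  have ht : Tails z 3 := ⟨fun i _ => h.sz _ (hz i), fun i _ g => (h.cz _ (hz i) g).symm⟩
  obtain ⟨b1, hb1, kb1⟩ := h.surj ha0 ha0' (hz 1)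
  obtain ⟨b2, hb2, kb2⟩ := h.surj ha0 ha0' (hz 2)
  obtain ⟨a1, ha1, ka1⟩ := h.symm.surj hb0 hb0' (hz 1)
  obtain ⟨a2, ha2, ka2⟩ := h.symm.surj hb0 hb0' (hz 2)
  rw [h.kk_symm ha1 hb0] at ka1
  rw [h.kk_symm ha2 hb0] at ka2
  obtain ⟨u, hu, ku⟩ := hs _ (h.km a1 ha1 b1 hb1)
  obtain ⟨v, hv, kv⟩ := hs _ (h.km a1 ha1 b2 hb2)
  obtain ⟨s, hs', ks⟩ := hs _ (h.km a2 ha2 b1 hb1)
  obtain ⟨t, ht', kt⟩ := hs _ (h.km a2 ha2 b2 hb2)
  let a : ℕ → G := fun i => if i = 0 then a0 else if i = 1 then a1 else a2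
  let b : ℕ → G := fun i => if i = 0 then b0 else if i = 1 then b1 else b2
  have ha : ∀ i, i < 3 → a i ∈ A := fun i _ => by
    simp only [a]
    split_ifs <;> assumption
  have hb : ∀ i, i < 3 → b i ∈ B := fun i _ => by
    simp only [b]
    split_ifs <;> assumption
  have hk : ∀ p q, kk (el a 3 p) (el b 3 q) = el z 3 (bil u v s t p q) := fun p q => by
    rw [h.el_left (el_mem q 3 hb) ha]
    refine el_xs ht ?_ ?_ ?_ p
    · exact (h.el_right ha0 hb q).trans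
        (el_xs ht (hz0.symm.trans (el_one z).symm) (kb1.trans (el_two z).symm) (kb2.trans (el_four z).symm) q)
    · exact (h.el_right ha1 hb q).trans (el_xs ht (ka1.trans (el_two z).symm) ku kv q)
    · exact (h.el_right ha2 hb q).trans (el_xs ht (ka2.trans (el_four z).symm) ks kt q)
  rcases fin u hu v hv s hs' t ht' with ⟨p, hp, q, hq, hp0, hq0, h0⟩ | ⟨p, hp, q, hq, h1, h2⟩
  · exfalso
    have h1 := hk p q
    rw [h0, el_nil] at h1
    rcases h.ns _ (el_mem p 3 ha) _ (el_mem q 3 hb) (kk_eq_one.1 h1) with h2 | h2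
    · refine (h.not_mem (b := el b 3 1) fun h3 => hp0 (hi p hp ?_)).1 h2
      rwa [hk, bil, xs_one, xs_one, xs_one, bil_one p hp] at h3
    · refine (h.not_mem (a := el a 3 1) fun h3 => hq0 (hi q hq ?_)).2 h2
      rwa [hk, bil, xs_one, bil_one q hq] at h3
  · have hx : ∀ m, el (fun i => el z 3 (tr 1 p q i)) 3 m = el z 3 (xs 1 p q m) := el_xs ht rfl rfl rfl
    refine h.pc_of hG (a := fun i => el a 3 (tr 1 p q i)) (b := fun i => el b 3 (tr 1 p q i))
      (z := fun i => el z 3 (tr 1 p q i)) (fun i _ => el_mem _ 3 ha) (fun i _ => el_mem _ 3 hb)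
      (fun i _ => el_mem _ 3 fun j _ => hz j) (fun i hi j hj => by rw [hk, h1 i hi j hj, hx])
      (fun h3 => one_ne_zero (hi 1 (by norm_num) h3)) fun x hx' => ?_
    obtain ⟨m, hm, rfl⟩ := hs x hx'
    obtain ⟨m', -, rfl⟩ := h2 m hm
    exact ⟨m', (hx m').symm⟩

end Sit

end Cfsg.Agent.FS.N.C2.UT

namespace Cfsg.Agent.FS.N.C2.Mod

/-- **`UT₃(8)`** -/
theorem boxUT : BoxUT UT.R2 := fun _ _ _ hG _ _ _ h1 h2 h3 h4 h5 h6 h7 h8 h9 h10 =>
  UT.Sit.main ⟨h1, h2, h3, h4, h5, h6, h7, h8, h9, h10⟩ hG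

end Cfsg.Agent.FS.N.C2.Mod
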