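import Cfsg.Agent.FS.N.C2.Two
import Cfsg.Agent.FS.N.C2.Sp
import Cfsg.Agent.FS.N.C2.D8
import Cfsg.Agent.FS.N.C2.UT

/-!
# S5288, class two: the two boxes (helper53, project FS)
-/

set_option autoImplicit false

namespace Cfsg.Agent.FS.N.C2

/-- **class two below the order `2 ^ 9`** -/
theorem boxSq : BoxSq := boxSq_of Mod.boxTV Mod.boxSp

/-- **class two at the order `2 ^ 9`** -/
theorem boxC2 : BoxC2 Mod.R1 UT.R2 := boxC2_of Mod.boxTV Mod.boxSp Mod.boxD8 Mod.boxUT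

end Cfsg.Agent.FS.N.C2
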