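import Cfsg.Agent.FS.N.C2.Defs
import Cfsg.Agent.FS.N.Tw
import Cfsg.Agent.FS.Th.Tests
import Cfsg.Agent.H805.PU.Push

/-!
# S5288, class two: essential subgroups, the inverted odd automorphisms, Alperin's theorem (helper53, project FS)
-/

set_option autoImplicit false

namespace Cfsg.Agent.FS.N.C2

open Cfsg Cfsg.FusionSystem Cfsg.Agent.H752 Cfsg.Agent.FS.Th

variable {G : Type} [Group G]

/-- the commutator -/
def br (a b : G) : G := a * b * a⁻¹ * b⁻¹

/-- the centre -/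
abbrev Zc (G : Type) [Group G] : Subgroup G := Subgroup.center G

theorem zc {z : G} (hz : z ∈ Zc G) (g : G) : g * z = z * g := Subgroup.mem_center_iff.1 hz g

theorem br_eq_one {a b : G} : br a b = 1 ↔ a * b = b * a := by
  unfold br
  rw [mul_inv_eq_one, mul_inv_eq_iff_eq_mul]

theorem br_inv (a b : G) : (br a b)⁻¹ = br b a := by
  unfold br
  group

theorem conj_eq (a b : G) : a * b * a⁻¹ = br a b * b := by
  unfold br
  group

theorem mul_eq_br (a b : G) : a * b = br a b * (b * a) := by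
  unfold br
  group

theorem br_mem (h : Cl2 G) (a b : G) : br a b ∈ Zc G := Subgroup.mem_center_iff.2 fun c => (h a b c).symm

theorem br_mul_right (h : Cl2 G) (a b c : G) : br a (b * c) = br a b * br a c := by
  have e : br a (b * c) = br a b * (b * br a c * b⁻¹) := by
    unfold br
    group
  rw [e, zc (br_mem h a c) b, mul_inv_cancel_right]

theorem br_mul_left (h : Cl2 G) (a b c : G) : br (a * b) c = br a c * br b c := by
  have e : br (a * b) c = (a * br b c * a⁻¹) * br a c := by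
    unfold br
    group
  rw [e, zc (br_mem h b c) a, mul_inv_cancel_right, zc (br_mem h a c)]

theorem br_zr {z : G} (hz : z ∈ Zc G) (a : G) : br a z = 1 := br_eq_one.2 (zc hz a)

theorem br_zl {z : G} (hz : z ∈ Zc G) (a : G) : br z a = 1 := br_eq_one.2 (zc hz a).symm

/-- `x ↦ [s, x]` -/
def brR (h : Cl2 G) (s : G) : G →* G := MonoidHom.mk' (fun x => br s x) (br_mul_right h s)

/-- `s ↦ [s, x]` -/
def brL (h : Cl2 G) (x : G) : G →* G := MonoidHom.mk' (fun s => br s x) fun a b => br_mul_left h a b x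

theorem nor_of (h : Cl2 G) {P : Subgroup G} (hP : Zc G ≤ P) (g : G) {x : G} (hx : x ∈ P) : g * x * g⁻¹ ∈ P := by
  rw [conj_eq]
  exact P.mul_mem (hP (br_mem h g x)) hx

theorem normal_of (h : Cl2 G) {P : Subgroup G} (hP : Zc G ≤ P) : P.Normal := ⟨fun _ hx g => nor_of h hP g hx⟩

/-- `Ω₁ Z(P)` -/
abbrev Om (P : Subgroup G) : Subgroup G := inVS P

theorem om_le (P : Subgroup G) : Om P ≤ P := fun _ hx => hx.1

theorem om_sq {P : Subgroup G} {x : G} (hx : x ∈ Om P) : x * x = 1 := hx.2.1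

theorem om_comm {P : Subgroup G} {x y : G} (hx : x ∈ Om P) (hy : y ∈ P) : y * x = x * y := hx.2.2 y hy

theorem om_inv {P : Subgroup G} {x : G} (hx : x ∈ Om P) : x⁻¹ = x := inv_eq_of_mul_eq_one_right (om_sq hx)

/-- an odd automorphism of `P` in `F`, inverted by a conjugation -/
structure Kp (F : Sys G) (P : Subgroup G) (f : G → G) : Prop where
  mp : Mp F P f
  mem : ∀ x ∈ P, f x ∈ P
  odd : ∃ k, Odd k ∧ ∀ x ∈ P, f^[k] x = x
  inv : ∃ t, t * t ∈ P ∧ ∀ x ∈ P, f (t * f x * t⁻¹) = t * x * t⁻¹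

/-- `[P, K]` -/
def Up (F : Sys G) (P : Subgroup G) : Subgroup G :=
  Subgroup.closure {y | ∃ f, Kp F P f ∧ ∃ x ∈ P, y = x⁻¹ * f x}

/-- `C_P(K)` -/
def Cp (F : Sys G) (P : Subgroup G) : Subgroup G where
  carrier := {x | x ∈ P ∧ ∀ f, Kp F P f → f x = x}
  one_mem' := ⟨P.one_mem, fun _ h => h.mp.one⟩
  mul_mem' := fun {a b} ha hb => ⟨P.mul_mem ha.1 hb.1, fun f h => by rw [h.mp.mul ha.1 hb.1, ha.2 f h, hb.2 f h]⟩
  inv_mem' := fun {a} ha => ⟨P.inv_mem ha.1, fun f h => by rw [h.mp.inv ha.1, ha.2 f h]⟩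

variable {F : Sys G}

theorem up_mem {P : Subgroup G} {f : G → G} (h : Kp F P f) {x : G} (hx : x ∈ P) : x⁻¹ * f x ∈ Up F P :=
  Subgroup.subset_closure ⟨f, h, x, hx, rfl⟩

theorem up_le {P K : Subgroup G} (h : ∀ f, Kp F P f → ∀ x ∈ P, x⁻¹ * f x ∈ K) : Up F P ≤ K :=
  (Subgroup.closure_le K).2 (by
    rintro _ ⟨f, hf, x, hx, rfl⟩
    exact h f hf x hx)

theorem cp_le (P : Subgroup G) : Cp F P ≤ P := fun _ hx => hx.1

theorem iter_of_sq {X : Type} {f : X → X} {x : X} {k : ℕ} (hk : Odd k) (h1 : f^[k] x = x) (h2 : f (f x) = x) : f x = x := by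
  obtain ⟨j, rfl⟩ := hk
  have h3 : ∀ j : ℕ, f^[2 * j] x = x := by
    intro j
    induction j with
    | zero => rfl
    | succ j ih => rw [Nat.mul_succ, Function.iterate_add_apply]; exact (congrArg _ h2).trans ih
  rw [add_comm, Function.iterate_add_apply, h3] at h1
  exact h1

theorem Kp.fix {P : Subgroup G} {f : G → G} (h : Kp F P f) {x : G} (hx : x ∈ P) (h2 : f (f x) = x) : f x = x := by
  obtain ⟨k, hk, h1⟩ := h.odd
  exact iter_of_sq hk (h1 x hx) h2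

theorem Kp.iter_mem {P : Subgroup G} {f : G → G} (h : Kp F P f) {x : G} (hx : x ∈ P) (n : ℕ) : f^[n] x ∈ P := by
  induction n with
  | zero => exact hx
  | succ n ih => rw [Function.iterate_succ_apply']; exact h.mem _ ih

theorem Kp.oddM {P : Subgroup G} {f : G → G} (h : Kp F P f) : OddM F P f := ⟨h.mp, h.mem, h.odd⟩

theorem fn_pow {P : Subgroup G} (α : MulAut P) (n : ℕ) {x : G} (hx : x ∈ P) : fn (α ^ n) x = (fn α)^[n] x := by
  induction n with
  | zero => rw [pow_zero, fn_one hx]; rfl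
  | succ n ih => rw [pow_succ', fn_mul _ _ hx, ih, Function.iterate_succ_apply']

theorem kp_of {P : Subgroup G} {α : MulAut P} (hα : α ∈ F.autGroup P) {n : ℕ} (hn : Odd n) (h1 : α ^ n = 1) {t : G}
    (ht : t * t ∈ P) (h2 : ∀ x ∈ P, fn α (t * fn α x * t⁻¹) = t * x * t⁻¹) : Kp F P (fn α) :=
  ⟨mp_fn le_top hα, fun _ hx => fn_mem α hx, ⟨n, hn, fun x hx => by rw [← fn_pow α n hx, h1, fn_one hx]⟩, t, ht, h2⟩

variable [Finite G]

theorem mp_om {P : Subgroup G} {f : G → G} (h : Mp F P f) (hm : ∀ x ∈ P, f x ∈ P) {x : G} (hx : x ∈ Om P) :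
    f x ∈ Om P := by
  refine ⟨hm x hx.1, by rw [← h.mul hx.1 hx.1, om_sq hx, h.one], fun y hy => ?_⟩
  obtain ⟨y', hy', rfl⟩ := h.surj hm hy
  rw [← h.mul hy' hx.1, om_comm hx hy', h.mul hx.1 hy']

/-- the standing hypotheses -/
structure Cx (F : Sys G) : Prop where
  pg : IsPGroup 2 G
  cl : Cl2 G
  hy : Hy0 F

/-- essential -/
abbrev Es (F : Sys G) (P : Subgroup G) : Prop := F.IsEssential 2 P

/-- **Alperin** for a closed property. -/
theorem all_of (hG : IsPGroup 2 G) (hF : F.IsSaturated 2) {M : Subgroup G → (G → G) → Prop} (h : Closed F M)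
    (htop : ∀ θ : MulAut G, Mp F ⊤ θ → M ⊤ θ) (hess : ∀ P, Es F P → ∀ f, Kp F P f → M P f) {P : Subgroup G}
    {f : G → G} (hf : Mp F P f) : M P f := by
  have : Fact (Nat.Prime 2) := ⟨Nat.prime_two⟩
  have hS : IsPGroup 2 (⊤ : Subgroup G) := hG.to_subgroup ⊤
  by_contra hM
  obtain ⟨Q, H, h1⟩ := first_failure hS hF h (fun g hg => by
    obtain ⟨θ, hθ⟩ := Mp.exists_top hg
    have h2 : Mp F ⊤ θ := hg.congr fun x _ => hθ x
    exact h.congr ⊤ _ _ h2 (htop θ h2) fun x _ => (hθ x).symm) hf hM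
  obtain ⟨t, r, α, h2⟩ := h1.exists_dih₀ hS hF
  obtain ⟨k, hk⟩ := h2.ord
  exact h2.notMem ((h1.mem α).2 ⟨h2.mem, hess Q h1.ess _ (kp_of h2.mem (h2.prime.odd_of_ne_two h2.ne_two).pow
    (hk ▸ pow_orderOf_eq_one α) h2.tsq h2.inv)⟩)

/-- the normality criterion -/
theorem Cx.eq_bot (c : Cx F) {W : Subgroup G} (htop : ∀ θ : MulAut G, Mp F ⊤ θ → ∀ w ∈ W, θ w ∈ W)
    (hess : ∀ P, Es F P → W ≤ P ∧ ∀ f, Kp F P f → ∀ w ∈ W, f w ∈ W) : W = ⊥ := by
  by_contra hW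
  refine not_isNormal_of_core c.hy.core hW (isNormal_of_norP F le_top fun P f hf => ?_)
  refine all_of c.pg c.hy.sat (closed_norP F le_top fun s _ w hw => ?_) (fun θ hθ => ?_) (fun Q hQ g hg => ?_) hf
  · exact htop (MulAut.conj s) (mp_conj F le_rfl (Subgroup.mem_top s)) w hw
  · exact (norP_iff_of_le le_top hθ).2 (htop θ hθ)
  · exact (norP_iff_of_le (hess Q hQ).1 hg.mp).2 ((hess Q hQ).2 g hg)

/-- the criterion for strong closure -/
theorem Cx.closed (c : Cx F) {W : Subgroup G} (htop : ∀ θ : MulAut G, Mp F ⊤ θ → ∀ w ∈ W, θ w ∈ W)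
    (hess : ∀ P, Es F P → ∀ f, Kp F P f → ∀ x ∈ P, (x ∈ W ↔ f x ∈ W)) {P : Subgroup G} {f : G → G} (hf : Mp F P f)
    {x : G} (hx : x ∈ P) (hW : x ∈ W) : f x ∈ W := by
  have h1 : ∀ θ : MulAut G, Mp F ⊤ θ → ∀ w, w ∈ W ↔ θ w ∈ W := fun θ hθ w =>
    (iff_of_mapsTo (htop θ hθ) w).symm
  refine (all_of c.pg c.hy.sat (M := fun P f => ∀ x ∈ P, (x ∈ W ↔ f x ∈ W)) ⟨?_, ?_, ?_, ?_⟩ (fun θ hθ w _ => h1 θ hθ w)
    hess hf x hx).1 hW
  · intro P f g _ h2 h3 x hx
    rw [h3 x hx]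
    exact h2 x hx
  · intro P Q f g _ _ h2 h3 h4 x hx
    exact (h2 x hx).trans (h3 _ (h4 x hx))
  · intro P R f g _ h2 _ h3 _ y hy
    obtain ⟨x, hx, rfl, h4⟩ := h3 y hy
    rw [h4]
    exact (h2 x hx).symm
  · intro P _ s _ x _
    exact h1 (MulAut.conj s) (mp_conj F le_rfl (Subgroup.mem_top s)) x

/-! ### transport along the automorphisms of the whole group -/

omit [Finite G] in
theorem mp_inv_top {θ : MulAut G} (h : Mp F ⊤ θ) : Mp F ⊤ (θ⁻¹ : MulAut G) :=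
  h.symm fun y _ => ⟨θ⁻¹ y, trivial, MulAut.apply_inv_self _ _ _, rfl⟩

omit [Finite G] in
theorem twBy_of {θ : MulAut G} (h : Mp F ⊤ θ) : TwBy θ F F := by
  intro P a b hab
  constructor
  · intro h1
    refine (((h.res le_top).comp h1 fun x hx => ⟨x, hx, rfl⟩).comp (mp_inv_top h) fun _ _ => trivial).congr
      fun x hx => ?_
    rw [hab x hx, MulAut.inv_apply_self]
  · intro h1
    refine ((((mp_inv_top h).res le_top).comp h1 fun y hy => (Asm.mem_map_iff' θ P y).1 hy).comp h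
      fun _ _ => trivial).congr fun y hy => ?_
    rw [← hab _ ((Asm.mem_map_iff' θ P y).1 hy), MulAut.apply_inv_self]

omit [Finite G] in
theorem es_map {θ : MulAut G} (h : Mp F ⊤ θ) {P : Subgroup G} (hP : Es F P) : Es F (P.map θ.toMonoidHom) :=
  (H805.PU.isEssential_iff (twBy_of h).isPush).2 hP

omit [Finite G] in
theorem kp_pull {θ : MulAut G} (h : Mp F ⊤ θ) {P : Subgroup G} {f : G → G} (hf : Kp F (P.map θ.toMonoidHom) f) :
    Kp F P fun x => θ⁻¹ (f (θ x)) := by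
  obtain ⟨h1, h2, h3⟩ := (twBy_of h).oddM hf.oddM
  obtain ⟨t, h4, h5⟩ := hf.inv
  refine ⟨h1, h2, h3, θ⁻¹ t, ?_, fun x hx => ?_⟩
  · rw [← map_mul]
    exact (Asm.mem_map_iff' θ P _).1 h4
  · rw [map_mul, map_mul, map_inv, MulAut.apply_inv_self, MulAut.apply_inv_self, h5 (θ x) ⟨x, hx, rfl⟩, map_mul, map_mul,
      map_inv, MulAut.inv_apply_self]

omit [Finite G] in
theorem map_map_inv (θ : MulAut G) (P : Subgroup G) :
    (P.map θ.toMonoidHom).map (θ⁻¹ : MulAut G).toMonoidHom = P := by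
  ext x
  rw [Asm.mem_map_iff', Asm.mem_map_iff', inv_inv, MulAut.inv_apply_self]

omit [Finite G] in
theorem cp_map {θ : MulAut G} (h : Mp F ⊤ θ) {P : Subgroup G} {x : G} (hx : x ∈ Cp F P) :
    θ x ∈ Cp F (P.map θ.toMonoidHom) := by
  refine ⟨⟨x, hx.1, rfl⟩, fun f hf => ?_⟩
  have h1 := congrArg θ (hx.2 _ (kp_pull h hf))
  rwa [MulAut.apply_inv_self] at h1

omit [Finite G] in
theorem up_map {θ : MulAut G} (h : Mp F ⊤ θ) {P : Subgroup G} {x : G} (hx : x ∈ Up F P) :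
    θ x ∈ Up F (P.map θ.toMonoidHom) := by
  refine (up_le (K := (Up F (P.map θ.toMonoidHom)).comap θ.toMonoidHom) fun f hf y hy => ?_) hx
  rw [← map_map_inv θ P] at hf
  have h1 := up_mem (kp_pull (mp_inv_top h) hf) (x := θ y) ⟨y, hy, rfl⟩
  rw [inv_inv, MulAut.inv_apply_self] at h1
  show θ (y⁻¹ * f y) ∈ Up F (P.map θ.toMonoidHom)
  rwa [map_mul, map_inv]

omit [Finite G] in
theorem om_map (θ : MulAut G) {P : Subgroup G} {x : G} (hx : x ∈ Om P) : θ x ∈ Om (P.map θ.toMonoidHom) := by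
  refine ⟨⟨x, hx.1, rfl⟩, by rw [← map_mul, om_sq hx, map_one], ?_⟩
  rintro _ ⟨y, hy, rfl⟩
  show θ y * θ x = θ x * θ y
  rw [← map_mul, om_comm hx hy, map_mul]

omit [Finite G] in
theorem index_map' (θ : MulAut G) (P : Subgroup G) : (P.map θ.toMonoidHom).index = P.index :=
  Subgroup.index_map_equiv P θ

/-- the automorphism of an invariant subgroup -/
theorem Kp.aut {P E : Subgroup G} {f : G → G} (h : Kp F P f) (hE : E ≤ P) (hm : ∀ x ∈ E, f x ∈ E) :
    ∃ α ∈ F.autGroup E, Odd (orderOf α) ∧ ∀ x : E, ((α x : E) : G) = f x := by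
  obtain ⟨α, hα, h1⟩ := (h.mp.res hE).exists_aut hm
  obtain ⟨k, hk, h2⟩ := h.odd
  have h3 : ∀ x ∈ E, fn α x = f x := fun x hx => by rw [fn_apply α hx, h1 x hx]
  have h4 : ∀ n, ∀ x ∈ E, (fn α)^[n] x = f^[n] x := by
    intro n
    induction n with
    | zero => exact fun _ _ => rfl
    | succ n ih =>
      intro x hx
      rw [Function.iterate_succ_apply, Function.iterate_succ_apply, h3 x hx, ih _ (hm x hx)]
  refine ⟨α, hα, hk.of_dvd_nat (orderOf_dvd_of_pow_eq_one (MulEquiv.ext fun x => Subtype.ext ?_)),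
    fun x => (h1 x x.2).symm⟩
  rw [← fn_apply (α ^ k) x.2, fn_pow α k x.2, h4 k x x.2, h2 x (hE x.2)]
  rfl

theorem up_le_hyp (P : Subgroup G) : Up F P ≤ hyp F := by
  refine up_le fun f hf x hx => ?_
  obtain ⟨α, hα, h1, h2⟩ := hf.aut le_rfl hf.mem
  refine Subgroup.subset_closure ⟨P, ⟨α, hα⟩, ⟨x, hx⟩, le_top, Subgroup.subset_closure ?_, by rw [← h2 ⟨x, hx⟩]⟩
  show Nat.Coprime (orderOf (⟨α, hα⟩ : F.autGroup P)) 2
  rw [← Subgroup.orderOf_coe]
  exact Nat.coprime_two_right.2 h1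

end Cfsg.Agent.FS.N.C2
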