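import Cfsg.Agent.FS.N.Defs
import Cfsg.Agent.FS.Th.G2

/-!
# S5288, class two: the pure lemmas as boxes (helper53, project FS)
-/

set_option autoImplicit false

namespace Cfsg.Agent.FS.N.C2

open Cfsg.Agent.FS.Th

/-- two elements of `Γ` which generate a `2`-group act quadratically -/
def Quad {V : Type} [CommGroup V] (Γ : Subgroup (MulAut V)) : Prop :=
  ∀ σ ∈ Γ, ∀ υ ∈ Γ, IsPGroup 2 (Subgroup.closure ({σ, υ} : Set (MulAut V))) → ∀ x, cm σ (cm υ x) = 1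

/-- two nontrivial elements of `Γ` which generate a `2`-group have the same fixed points -/
def Same {V : Type} [CommGroup V] (Γ : Subgroup (MulAut V)) : Prop :=
  ∀ σ ∈ Γ, ∀ υ ∈ Γ, σ ≠ 1 → υ ≠ 1 → IsPGroup 2 (Subgroup.closure ({σ, υ} : Set (MulAut V))) →
    ∀ x, σ x = x → υ x = x

/-- the transvection lemma -/
def BoxTV : Prop :=
  ∀ (V : Type) [CommGroup V] [Finite V], (∀ x : V, x * x = 1) → ∀ Γ : Subgroup (MulAut V), Quad Γ →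
    ∀ p ∈ Γ, ∀ β ∈ Γ, ∀ α ∈ Γ, ∀ z : V, (∀ x, p x = x ∨ p x = x * z) → Odd (orderOf β) → p * β * p⁻¹ = β⁻¹ →
      Odd (orderOf α) → α * p = p * α → α * β = β * α

/-- the conjugates of `Z` form a spread over `Z ∩ a Z` -/
def BoxSp : Prop :=
  ∀ (V : Type) [CommGroup V] [Finite V], (∀ x : V, x * x = 1) → ∀ (Γ E : Subgroup (MulAut V)) (Z : Subgroup V),
    Same Γ → E ≤ Γ → (∀ σ ∈ E, ∀ x, cm σ x ∈ Z) → (∀ σ ∈ E, σ ≠ 1 → ∀ x, σ x = x ↔ x ∈ Z) →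
      Nat.card E = Z.index → Z.index ≤ 4 → ∀ a ∈ Γ, (∃ z ∈ Z, a z ∉ Z) →
        (∀ σ ∈ E, ∀ x, a⁻¹ (cm σ x) ∈ Z → cm σ x = 1) ∧ ∀ b ∈ Γ, ∀ z ∈ Z, a⁻¹ z ∈ Z → b⁻¹ z ∈ Z

/-- `UT₃(8)` -/
def BoxUT (R : ℕ) : Prop :=
  ∀ (G : Type) [Group G] [Finite G], Nat.card G = 2 ^ 9 → ∀ A B Z : Subgroup G, (∀ x ∈ A, x * x = 1) →
    (∀ x ∈ B, x * x = 1) → (∀ z ∈ Z, ∀ g, g * z = z * g) → Z ≤ A → Z ≤ B → Nat.card Z = 8 → Nat.card A = 64 →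
      Nat.card B = 64 → (∀ a ∈ A, ∀ b ∈ B, a * b * a⁻¹ * b⁻¹ ∈ Z) →
        (∀ a ∈ A, ∀ b ∈ B, a * b = b * a → a ∈ Z ∨ b ∈ Z) → ∃ y : ℕ → G, Pc16 9 R y

/-- `D8 × D8 × D8` -/
def BoxD8 (R : ℕ) : Prop :=
  ∀ (G : Type) [Group G] [Finite G], Nat.card G = 2 ^ 9 → ∀ a b z : Fin 3 → G, (∀ i, a i * a i = 1) →
    (∀ i, b i * b i = 1) → (∀ i, z i * z i = 1) → (∀ i g, g * z i = z i * g) → (∀ i, a i * b i = b i * a i * z i) →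
      (∀ i j, a i * a j = a j * a i) → (∀ i j, b i * b j = b j * b i) → (∀ i j, i ≠ j → a i * b j = b j * a i) →
        Subgroup.closure (Set.range a ∪ Set.range b) = ⊤ → ∃ y : ℕ → G, Pc16 9 R y

end Cfsg.Agent.FS.N.C2
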