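import Cfsg.Agent.FS.N.C2.Odd

/-!
# S5288, class two: the edges (helper53, project FS)
-/

set_option autoImplicit false

namespace Cfsg.Agent.FS.N.C2

open Cfsg Cfsg.FusionSystem Cfsg.Agent.H752 Cfsg.Agent.FS.Th

variable {G : Type} [Group G] [Finite G]

theorem rel_ne (H K : Subgroup G) : H.relIndex K ≠ 0 := Subgroup.index_ne_zero_of_finite

theorem rel_le_left {H K : Subgroup G} (h : H ≤ K) (L : Subgroup G) : K.relIndex L ≤ H.relIndex L :=
  Subgroup.relIndex_le_of_le_left h (rel_ne _ _)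

theorem rel_le_right (H : Subgroup G) {K L : Subgroup G} (h : K ≤ L) : H.relIndex K ≤ H.relIndex L :=
  Subgroup.relIndex_le_of_le_right h (rel_ne _ _)

theorem rel_le_index (H K : Subgroup G) : H.relIndex K ≤ H.index := by
  rw [← Subgroup.relIndex_top_right]
  exact rel_le_right H le_top

omit [Finite G] in
theorem card_eq_rel {H K : Subgroup G} (h : H ≤ K) : Nat.card K = Nat.card H * H.relIndex K := by
  rw [← Subgroup.relIndex_bot_left, ← Subgroup.relIndex_bot_left, Subgroup.relIndex_mul_relIndex _ _ _ bot_le h]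

theorem mem_of_rel {H K L : Subgroup G} (h : H ≤ K) (h1 : H.relIndex L ≤ K.relIndex L) {x : G} (hK : x ∈ K)
    (hL : x ∈ L) : x ∈ H := by
  have h2 := Subgroup.relIndex_inf_mul_relIndex H K L
  rw [inf_eq_left.2 h] at h2
  have h3 := Nat.pos_of_ne_zero (rel_ne K L)
  have h4 := Nat.pos_of_ne_zero (rel_ne H (K ⊓ L))
  have h5 : H.relIndex (K ⊓ L) = 1 := by nlinarith
  exact Subgroup.relIndex_eq_one.1 h5 ⟨hK, hL⟩

theorem dec_of_rel {P B : Subgroup G} (hn : P.Normal) (h : P.index ≤ P.relIndex B) (g : G) :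
    ∃ b ∈ B, b⁻¹ * g ∈ P := by
  have h1 := Subgroup.relIndex_mul_index (show P ≤ B ⊔ P from le_sup_right)
  rw [Subgroup.relIndex_sup_right] at h1
  have h2 := Nat.pos_of_ne_zero (rel_ne P B)
  have h3 : 0 < (B ⊔ P).index := Nat.pos_of_ne_zero Subgroup.index_ne_zero_of_finite
  have h4 : (B ⊔ P).index = 1 := by nlinarith
  have h5 : g ∈ B ⊔ P := by rw [Subgroup.index_eq_one.1 h4]; trivial
  obtain ⟨b, hb, p, hp, rfl⟩ := Subgroup.mem_sup_of_normal_right.1 h5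
  exact ⟨b, hb, by rwa [inv_mul_cancel_left]⟩

theorem rel_pow (hG : IsPGroup 2 G) (H K : Subgroup G) : ∃ n, H.relIndex K = 2 ^ n :=
  haveI : Fact (Nat.Prime 2) := ⟨Nat.prime_two⟩
  (hG.to_subgroup K).index _

theorem idx_pow (hG : IsPGroup 2 G) (H : Subgroup G) : ∃ n, H.index = 2 ^ n :=
  haveI : Fact (Nat.Prime 2) := ⟨Nat.prime_two⟩
  hG.index _

theorem card_pow (hG : IsPGroup 2 G) (H : Subgroup G) : ∃ n, Nat.card H = 2 ^ n :=
  haveI : Fact (Nat.Prime 2) := ⟨Nat.prime_two⟩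
  IsPGroup.iff_card.1 (hG.to_subgroup H)

theorem pow_cases {a : ℕ} (h : ∃ n, a = 2 ^ n) : a = 1 ∨ a = 2 ∨ a = 4 ∨ 8 ≤ a := by
  obtain ⟨n, rfl⟩ := h
  rcases n with _ | _ | _ | n
  · exact Or.inl rfl
  · exact Or.inr (Or.inl rfl)
  · exact Or.inr (Or.inr (Or.inl rfl))
  · have := Nat.two_pow_pos n
    refine Or.inr (Or.inr (Or.inr ?_))
    rw [pow_succ, pow_succ, pow_succ]
    omega

theorem two_cases {U : Subgroup G} (h : Nat.card U ≤ 2) : ∃ v ∈ U, ∀ x ∈ U, x = 1 ∨ x = v := by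
  by_contra h1
  push Not at h1
  obtain ⟨x, hx, h2, -⟩ := h1 1 U.one_mem
  obtain ⟨y, hy, h3, h4⟩ := h1 x hx
  have := Fintype.ofFinite U
  have h5 : 2 < Fintype.card U := Fintype.two_lt_card_iff.2 ⟨1, ⟨x, hx⟩, ⟨y, hy⟩,
    fun e => h2 (congrArg Subtype.val e).symm, fun e => h3 (congrArg Subtype.val e).symm,
    fun e => h4 (congrArg Subtype.val e).symm⟩
  rw [Nat.card_eq_fintype_card] at h
  omega

theorem card_le_two {U : Subgroup G} {v : G} (h : ∀ x ∈ U, x = 1 ∨ x = v) : Nat.card U ≤ 2 := by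
  have h1 : (U : Set G) ⊆ {1, v} := fun x hx => h x hx
  have h2 := Set.ncard_le_ncard h1
  have h3 := Set.ncard_insert_le (1 : G) {v}
  rw [Set.ncard_singleton] at h3
  exact h2.trans h3

variable {F : Sys G} {P Q : Subgroup G}

theorem Cx.om_le_symm (c : Cx F) (hP : Es F P) (h : Om P ≤ Q) : Om Q ≤ P := fun _ hb =>
  c.mem_of_cent hP fun _ hx => (om_comm hb (h hx)).symm

omit [Finite G] in
theorem card_wt (c : Cx F) (P : Subgroup G) (t : G) : Nat.card (Wt c P t) = (brR c.cl t).ker.relIndex (Om P) :=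
  (Subgroup.relIndex_ker _ _).symm

theorem Cx.wt_le_rel (c : Cx F) (P : Subgroup G) {b : G} (hb : b ∈ Om Q) :
    Nat.card (Wt c P b) ≤ Q.relIndex (Om P) := by
  rw [card_wt]
  exact rel_le_left (fun x hx => br_eq_one.2 (om_comm hb hx).symm) _

theorem Cx.wt_two (c : Cx F) (hP : Es F P) {t : G} (ht : t ∉ P) : 2 ≤ Nat.card (Wt c P t) := by
  obtain ⟨x, hx, h1⟩ := c.exists_br hP ht
  exact Finite.one_lt_card_iff_nontrivial.2 ⟨⟨_, br_mem_wt c t hx⟩, 1, fun e => h1 (congrArg Subtype.val e)⟩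

theorem Cx.wt_four (c : Cx F) (hP : Es F P) (h : 2 < P.index) {t : G} (ht : t ∉ P) : 4 ≤ Nat.card (Wt c P t) := by
  by_contra h1
  have h2 := c.wt_two hP ht
  have h3 := pow_cases (card_pow c.pg (Wt c P t))
  obtain ⟨v, -, hv⟩ := two_cases (U := Wt c P t) (by omega)
  exact c.nt hP h ht fun x hx => hv _ (br_mem_wt c t hx)

theorem Cx.wt_eight (c : Cx F) (hP : Es F P) (h : 4 < P.index) {t : G} (ht : t ∉ P) : 8 ≤ Nat.card (Wt c P t) := by
  by_contra h1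
  have h3 := pow_cases (card_pow c.pg (Wt c P t))
  exact c.g2 hP h ht (by omega)

/-- a regular essential subgroup -/
structure Rg (F : Sys G) (q : ℕ) (P : Subgroup G) : Prop where
  es : Es F P
  idx : P.index = q
  rel : (Zc G).relIndex (Om P) = q
  reg : ∀ t, t ∉ P → ∀ a ∈ Om P, t * a = a * t → a ∈ Zc G

theorem Cx.idx_ne (c : Cx F) (hP : Es F P) : P.index ≠ 1 := fun h => c.ne_top hP (Subgroup.index_eq_one.1 h)

theorem Cx.rg_of (c : Cx F) (hP : Es F P) {q : ℕ} (h1 : P.index = q) (h2 : P.relIndex (Om Q) = q)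
    (h3 : Q.relIndex (Om P) = q) (hZ : Zc G ≤ Q) (h4 : ∀ t, t ∉ P → q ≤ Nat.card (Wt c P t)) : Rg F q P := by
  have h5 : (Zc G).relIndex (Om P) = q := by
    rw [← h3, ← Subgroup.inf_relIndex_right (Zc G), ← Subgroup.inf_relIndex_right Q]
    congr 1
    refine le_antisymm (inf_le_inf_right _ hZ) fun x hx => ⟨Subgroup.mem_center_iff.2 fun g => ?_, hx.2⟩
    obtain ⟨b, hb, h6⟩ := dec_of_rel (normal_of c.cl (c.zle hP)) (h1.trans h2.symm).le g
    rw [← mul_inv_cancel_left b g, mul_assoc, om_comm hx.2 h6, ← mul_assoc, ← om_comm hb hx.1, mul_assoc]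
  refine ⟨hP, h1, h5, fun t ht a ha h6 => ?_⟩
  refine mem_of_rel (K := (brR c.cl t).ker) (fun z hz => br_zr hz t) ?_ (br_eq_one.2 h6) ha
  rw [h5, ← card_wt]
  exact h4 t ht

/-- a transvection -/
theorem Cx.rg_two (c : Cx F) (hP : Es F P) {t v : G} (ht : t ∉ P) (hv : ∀ x ∈ Om P, br t x = 1 ∨ br t x = v) :
    Rg F 2 P := by
  have h1 : P.index = 2 := by
    have h2 := c.idx_ne hP
    have h3 : P.index ≠ 0 := Subgroup.index_ne_zero_of_finite
    by_contra h4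
    exact c.nt hP (by omega) ht hv
  have h2 : ∀ t, t ∉ P → ∀ a ∈ Om P, t * a = a * t → a ∈ Zc G := fun t ht a ha h2 =>
    Subgroup.mem_center_iff.2 fun g => by
      by_cases hg : g ∈ P
      · exact om_comm ha hg
      · have h3 : t⁻¹ * g ∈ P := (Subgroup.mul_mem_iff_of_index_two h1).2 (by simp [ht, hg])
        rw [← mul_inv_cancel_left t g, mul_assoc, om_comm ha h3, ← mul_assoc, h2, mul_assoc]
  refine ⟨hP, h1, ?_, h2⟩
  have h3 : Nat.card (Wt c P t) ≤ 2 := card_le_two (v := v) (by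
    rintro _ ⟨x, hx, rfl⟩
    exact hv x hx)
  rw [← le_antisymm h3 (c.wt_two hP ht), card_wt, ← Subgroup.inf_relIndex_right (Zc G),
    ← Subgroup.inf_relIndex_right (brR c.cl t).ker]
  congr 1
  exact le_antisymm (inf_le_inf_right _ fun z hz => br_zr hz t) fun x hx => ⟨h2 t ht x hx.2 (br_eq_one.1 hx.1), hx.2⟩

theorem Cx.edge_two (c : Cx F) (hP : Es F P) (h : ¬ Om Q ≤ P) (h2 : Q.relIndex (Om P) ≤ 2) : Rg F 2 P := by
  obtain ⟨b, hb, hbP⟩ := SetLike.not_le_iff_exists.1 h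
  obtain ⟨v, -, hv⟩ := two_cases ((c.wt_le_rel P hb).trans h2)
  exact c.rg_two hP hbP fun x hx => hv _ (br_mem_wt c b hx)

theorem Cx.edge_four (c : Cx F) (hP : Es F P) (h : ¬ Om Q ≤ P) (h2 : Q.relIndex (Om P) ≤ 4) : P.index ≤ 4 := by
  obtain ⟨b, hb, hbP⟩ := SetLike.not_le_iff_exists.1 h
  by_contra h3
  exact c.g2 hP (by omega) hbP ((c.wt_le_rel P hb).trans h2)

theorem Cx.edge_eight (c : Cx F) (hc : Nat.card G ≤ 2 ^ 9) (hP : Es F P) (hQ : Es F Q) (h1 : 8 ≤ Q.relIndex (Om P))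
    (h2 : 8 ≤ P.relIndex (Om Q)) : P.index = 8 ∧ Q.relIndex (Om P) = 8 ∧ Nat.card (Zc G) = 8 := by
  have h3 := rel_le_index P (Om Q)
  have h4 := rel_le_right Q (om_le P)
  obtain ⟨t, ht⟩ := c.exists_not_mem hP
  have h5 := (c.wt_eight hP (by omega) ht).trans (Subgroup.card_le_of_le (wt_le c P t))
  have h6 : Nat.card (Zc G) ≤ Nat.card ↥(Q ⊓ P) := Subgroup.card_le_of_le (le_inf (c.zle hQ) (c.zle hP))
  have h7 := Subgroup.card_mul_index (Q ⊓ P)
  rw [← Subgroup.relIndex_mul_index (show Q ⊓ P ≤ P from inf_le_right), Subgroup.inf_relIndex_right] at h7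
  generalize Nat.card ↥(Q ⊓ P) = x, Q.relIndex P = y, P.index = z at *
  have hx : 8 ≤ x := by omega
  have hy : 8 ≤ y := by omega
  have hz : 8 ≤ z := by omega
  have e1 : x * (8 * 8) ≤ x * (y * z) := Nat.mul_le_mul_left _ (Nat.mul_le_mul hy hz)
  have e2 : 8 * (y * 8) ≤ x * (y * z) := Nat.mul_le_mul hx (Nat.mul_le_mul_left _ hz)
  have e3 : 8 * (8 * z) ≤ x * (y * z) := Nat.mul_le_mul hx (Nat.mul_le_mul_right _ hy)
  omega

/-- **the edges** -/
theorem Cx.edge (c : Cx F) (hc : Nat.card G ≤ 2 ^ 9) (hP : Es F P) (hQ : Es F Q) (h : ¬ Om P ≤ Q) :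
    (Rg F 2 P ∧ Rg F 2 Q) ∨ (Rg F 4 P ∧ Rg F 4 Q) ∨ (Rg F 8 P ∧ Rg F 8 Q ∧ Nat.card (Zc G) = 8) := by
  have h' : ¬ Om Q ≤ P := fun h1 => h (c.om_le_symm hQ h1)
  have j1 : Q.relIndex (Om P) ≠ 1 := fun e => h (Subgroup.relIndex_eq_one.1 e)
  have k1 : P.relIndex (Om Q) ≠ 1 := fun e => h' (Subgroup.relIndex_eq_one.1 e)
  have j2 := pow_cases (rel_pow c.pg Q (Om P))
  have k2 := pow_cases (rel_pow c.pg P (Om Q))
  have j3 := rel_le_index Q (Om P)
  have k3 := rel_le_index P (Om Q)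
  by_cases a1 : Q.relIndex (Om P) ≤ 2
  · have r1 := c.edge_two hP h' a1
    exact Or.inl ⟨r1, c.edge_two hQ h (k3.trans r1.idx.le)⟩
  by_cases a2 : P.relIndex (Om Q) ≤ 2
  · exact (a1 (j3.trans (c.edge_two hQ h a2).idx.le)).elim
  by_cases a3 : Q.relIndex (Om P) ≤ 4 ∨ P.relIndex (Om Q) ≤ 4
  · have b1 : P.index ≤ 4 ∧ Q.index ≤ 4 := by
      rcases a3 with a3 | a3
      · have b1 := c.edge_four hP h' a3
        exact ⟨b1, c.edge_four hQ h (k3.trans b1)⟩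
      · have b1 := c.edge_four hQ h a3
        exact ⟨c.edge_four hP h' (j3.trans b1), b1⟩
    exact Or.inr (Or.inl ⟨c.rg_of hP (Q := Q) (by omega) (by omega) (by omega) (c.zle hQ)
      fun t ht => c.wt_four hP (by omega) ht, c.rg_of hQ (Q := P) (by omega) (by omega) (by omega) (c.zle hP)
      fun t ht => c.wt_four hQ (by omega) ht⟩)
  · obtain ⟨b1, b2, b3⟩ := c.edge_eight hc hP hQ (by omega) (by omega)
    obtain ⟨b4, b5, -⟩ := c.edge_eight hc hQ hP (by omega) (by omega)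
    exact Or.inr (Or.inr ⟨c.rg_of hP b1 b5 b2 (c.zle hQ) fun t ht => c.wt_eight hP (by omega) ht,
      c.rg_of hQ b4 b2 b5 (c.zle hP) fun t ht => c.wt_eight hQ (by omega) ht, b3⟩)

namespace Rg

variable {q : ℕ}

omit [Finite G] in
theorem mem (h : Rg F q P) {a t : G} (ha : a ∈ Om P) (haZ : a ∉ Zc G) (ht : t * a = a * t) : t ∈ P := by
  by_contra h1
  exact haZ (h.reg t h1 a ha ht)

omit [Finite G] in
/-- on an edge `Ω₁ Z(P) ∩ Q = Z` -/
theorem z_of (h : Rg F q P) (he : ¬ Om Q ≤ P) {a : G} (ha : a ∈ Om P) (haQ : a ∈ Q) : a ∈ Zc G := by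
  obtain ⟨b, hb, hbP⟩ := SetLike.not_le_iff_exists.1 he
  exact h.reg b hbP a ha (om_comm hb haQ).symm

theorem le_rel (h : Rg F q P) (he : ¬ Om Q ≤ P) : q ≤ Q.relIndex (Om P) := by
  rw [← Subgroup.inf_relIndex_right Q]
  exact h.rel.ge.trans (rel_le_left (H := Q ⊓ Om P) (fun x hx => h.z_of he hx.2 hx.1) _)

/-- on an edge `G = Ω₁ Z(P) Q` -/
theorem dec (h : Rg F q P) (c : Cx F) (hQ : Rg F q Q) (he : ¬ Om Q ≤ P) (g : G) : ∃ a ∈ Om P, a⁻¹ * g ∈ Q :=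
  dec_of_rel (normal_of c.cl (c.zle hQ.es)) (hQ.idx.le.trans (h.le_rel he)) g

theorem dec2 (h : Rg F q P) (c : Cx F) (hQ : Rg F q Q) (he : ¬ Om Q ≤ P) (g : G) :
    ∃ a ∈ Om P, ∃ b ∈ Om Q, ∃ y, y ∈ P ∧ y ∈ Q ∧ g = a * b * y := by
  obtain ⟨a, ha, h1⟩ := h.dec c hQ he g
  obtain ⟨b, hb, h2⟩ := hQ.dec c h (fun h3 => he (c.om_le_symm h.es h3)) (a⁻¹ * g)
  exact ⟨a, ha, b, hb, _, h2, Q.mul_mem (Q.inv_mem hb.1) h1, by group⟩

omit [Finite G] in
theorem card_wt (h : Rg F q P) (c : Cx F) {t : G} (ht : t ∉ P) : Nat.card (Wt c P t) = q := by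
  rw [C2.card_wt, ← h.rel, ← Subgroup.inf_relIndex_right (Zc G), ← Subgroup.inf_relIndex_right (brR c.cl t).ker]
  congr 1
  exact le_antisymm (fun x hx => ⟨h.reg t ht x hx.2 (br_eq_one.1 hx.1), hx.2⟩)
    (inf_le_inf_right _ fun z hz => br_zr hz t)

/-- on an edge `|G| = q² |P ∩ Q|` -/
theorem card_inf (h : Rg F q P) (hQ : Rg F q Q) (he : ¬ Om Q ≤ P) :
    Nat.card ↥(P ⊓ Q) * (q * q) = Nat.card G := by
  have h1 := Subgroup.card_mul_index (Q ⊓ P)
  rw [← Subgroup.relIndex_mul_index (show Q ⊓ P ≤ P from inf_le_right), Subgroup.inf_relIndex_right, h.idx] at h1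
  have h2 : Q.relIndex P = q :=
    le_antisymm ((rel_le_index Q P).trans hQ.idx.le) ((h.le_rel he).trans (rel_le_right Q (om_le P)))
  rwa [h2, inf_comm] at h1

end Rg

end Cfsg.Agent.FS.N.C2
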