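import Cfsg.Agent.FS.N.C2.Bas

/-!
# S5288, class two: one essential subgroup (helper53, project FS)
-/

set_option autoImplicit false

namespace Cfsg.Agent.FS.N.C2

open Cfsg Cfsg.FusionSystem Cfsg.Agent.H752 Cfsg.Agent.FS.Th

variable {G : Type} [Group G] [Finite G] {F : Sys G} {P : Subgroup G} {f : G → G}

theorem Cx.loc (c : Cx F) (hP : Es F P) : ∃ D, Loc P (F.autGroup P) D := locM_of_essential c.pg c.hy.sat hP

theorem Cx.zle (c : Cx F) (hP : Es F P) : Zc G ≤ P := fun _ hz =>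
  let ⟨_, h⟩ := c.loc hP
  h.mem_of_centralizes fun x _ => (zc hz x).symm

theorem Cx.ne_top (c : Cx F) (hP : Es F P) : P ≠ ⊤ :=
  let ⟨_, h⟩ := c.loc hP
  h.proper

theorem Cx.exists_not_mem (c : Cx F) (hP : Es F P) : ∃ t, t ∉ P := by
  by_contra h
  push Not at h
  exact c.ne_top hP ((Subgroup.eq_top_iff' P).2 h)

theorem Cx.nor (c : Cx F) (hP : Es F P) (g : G) {x : G} (hx : x ∈ P) : g * x * g⁻¹ ∈ P := nor_of c.cl (c.zle hP) g hx

omit [Finite G] in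
/-- the basic identity -/
theorem Kp.twice (hc : Cl2 G) (hZ : Zc G ≤ P) (h : Kp F P f) :
    ∃ t, t * t ∈ P ∧ ∀ x ∈ P, f (br t (f x)) * f (f x) = br t x * x := by
  obtain ⟨t, h1, h2⟩ := h.inv
  refine ⟨t, h1, fun x hx => ?_⟩
  rw [← h.mp.mul (hZ (br_mem hc _ _)) (h.mem x hx), ← conj_eq, ← conj_eq, h2 x hx]

/-- the centre is elementary abelian -/
theorem Cx.zsq (c : Cx F) {z : G} (hz : z ∈ Zc G) : z * z = 1 := by
  let W : Subgroup G :=
    { carrier := {w | ∃ y ∈ Zc G, w = y * y}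
      one_mem' := ⟨1, (Zc G).one_mem, (one_mul 1).symm⟩
      mul_mem' := by
        rintro _ _ ⟨a, ha, rfl⟩ ⟨b, hb, rfl⟩
        exact ⟨a * b, (Zc G).mul_mem ha hb, by rw [mul_assoc, mul_assoc, ← mul_assoc b, zc ha b, mul_assoc]⟩
      inv_mem' := by
        rintro _ ⟨a, ha, rfl⟩
        exact ⟨a⁻¹, (Zc G).inv_mem ha, mul_inv_rev a a⟩ }
  have hW : W = ⊥ := by
    refine c.eq_bot ?_ fun P hP => ⟨?_, fun f hf => ?_⟩
    · rintro θ - _ ⟨y, hy, rfl⟩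
      refine ⟨θ y, Subgroup.mem_center_iff.2 fun g => ?_, map_mul θ y y⟩
      obtain ⟨g, rfl⟩ := θ.surjective g
      rw [← map_mul, zc hy, map_mul]
    · rintro _ ⟨y, hy, rfl⟩
      exact P.mul_mem (c.zle hP hy) (c.zle hP hy)
    · rintro _ ⟨y, hy, rfl⟩
      have hyP := c.zle hP hy
      obtain ⟨t, h1, h2⟩ := hf.twice c.cl (c.zle hP)
      have h3 := h2 (y * y) (P.mul_mem hyP hyP)
      have h4 : br t (f (y * y)) = 1 := by
        obtain ⟨s, hs, h5⟩ := hf.mp.surj hf.mem h1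
        rw [hf.mp.mul hyP hyP, br_mul_right c.cl, ← br_mul_left c.cl, br_eq_one, ← h5, ← hf.mp.mul hs hyP,
          ← hf.mp.mul hyP hs, zc hy]
      rw [h4, hf.mp.one, one_mul, br_zr ((Zc G).mul_mem hy hy), one_mul] at h3
      exact ⟨y, hy, hf.fix (P.mul_mem hyP hyP) h3⟩
  have h1 : z * z ∈ W := ⟨z, hz, rfl⟩
  rwa [hW, Subgroup.mem_bot] at h1

theorem Cx.sq_mem (c : Cx F) (x : G) : x * x ∈ Zc G := Subgroup.mem_center_iff.2 fun g => by
  rw [← br_eq_one, br_mul_right c.cl, c.zsq (br_mem c.cl g x)]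

theorem Cx.zinv (c : Cx F) {z : G} (hz : z ∈ Zc G) : z⁻¹ = z := inv_eq_of_mul_eq_one_right (c.zsq hz)

theorem Cx.br_symm (c : Cx F) (a b : G) : br a b = br b a := by rw [← br_inv, c.zinv (br_mem c.cl b a)]

theorem Cx.zom (c : Cx F) (hZ : Zc G ≤ P) : Zc G ≤ Om P := fun _ hz => ⟨hZ hz, c.zsq hz, fun y _ => zc hz y⟩

theorem Cx.om_nor (c : Cx F) (hP : Es F P) (g : G) {x : G} (hx : x ∈ Om P) : g * x * g⁻¹ ∈ Om P :=
  nor_of c.cl (c.zom (c.zle hP)) g hx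

/-- `[P, K] ≤ Ω₁ Z(P)` -/
theorem Cx.dm (c : Cx F) (hP : Es F P) (h : Kp F P f) {x : G} (hx : x ∈ P) : x⁻¹ * f x ∈ Om P := by
  have hZ := c.zle hP
  obtain ⟨t, -, h2⟩ := h.twice c.cl hZ
  have h3 : ∀ x ∈ P, x⁻¹ * f (f x) ∈ Om P := fun x hx => by
    have h4 := mp_om h.mp h.mem (c.zom hZ (br_mem c.cl t (f x)))
    have h5 : f (f x) = (f (br t (f x)))⁻¹ * (br t x * x) := by rw [← h2 x hx, inv_mul_cancel_left]
    rw [h5, ← mul_assoc, om_comm ((Om P).inv_mem h4) (P.inv_mem hx), ← zc (br_mem c.cl t x), mul_assoc,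
      inv_mul_cancel_left]
    exact (Om P).mul_mem ((Om P).inv_mem h4) (c.zom hZ (br_mem c.cl t x))
  have h4 : ∀ j : ℕ, x⁻¹ * f^[2 * j] x ∈ Om P := by
    intro j
    induction j with
    | zero => rw [Nat.mul_zero, Function.iterate_zero_apply, inv_mul_cancel]; exact (Om P).one_mem
    | succ j ih =>
      have e : x⁻¹ * f^[2 * (j + 1)] x = (x⁻¹ * f^[2 * j] x) * ((f^[2 * j] x)⁻¹ * f (f (f^[2 * j] x))) := by
        rw [Nat.mul_succ, add_comm, Function.iterate_add_apply, mul_assoc, mul_inv_cancel_left]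
        rfl
      rw [e]
      exact (Om P).mul_mem ih (h3 _ (h.iter_mem hx _))
  obtain ⟨k, ⟨j, rfl⟩, h5⟩ := h.odd
  have h6 := h4 (j + 1)
  rwa [show 2 * (j + 1) = (2 * j + 1) + 1 by ring, Function.iterate_succ_apply', h5 x hx] at h6

theorem Cx.up_le_om (c : Cx F) (hP : Es F P) : Up F P ≤ Om P := up_le fun _ hf _ hx => c.dm hP hf hx

theorem Cx.eq_mul (c : Cx F) (hP : Es F P) (h : Kp F P f) {x : G} (hx : x ∈ P) : ∃ u ∈ Om P, f x = x * u :=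
  ⟨_, c.dm hP h hx, (mul_inv_cancel_left _ _).symm⟩

theorem Cx.sq_cp (c : Cx F) (hP : Es F P) {x : G} (hx : x ∈ P) : x * x ∈ Cp F P := by
  refine ⟨P.mul_mem hx hx, fun f hf => ?_⟩
  obtain ⟨u, hu, h1⟩ := c.eq_mul hP hf hx
  rw [hf.mp.mul hx hx, h1, mul_assoc, ← mul_assoc u, ← om_comm hu hx, mul_assoc, om_sq hu, mul_one]

omit [Finite G] in
theorem mp_br (h : Mp F P f) {x y : G} (hx : x ∈ P) (hy : y ∈ P) : f (br x y) = br (f x) (f y) := by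
  unfold br
  rw [h.mul (P.mul_mem (P.mul_mem hx hy) (P.inv_mem hx)) (P.inv_mem hy), h.mul (P.mul_mem hx hy) (P.inv_mem hx),
    h.mul hx hy, h.inv hx, h.inv hy]

theorem Cx.br_cp (c : Cx F) (hP : Es F P) {x y : G} (hx : x ∈ P) (hy : y ∈ P) : br x y ∈ Cp F P := by
  refine ⟨c.zle hP (br_mem c.cl x y), fun f hf => ?_⟩
  obtain ⟨u, hu, h1⟩ := c.eq_mul hP hf hx
  obtain ⟨v, hv, h2⟩ := c.eq_mul hP hf hy
  rw [mp_br hf.mp hx hy, h1, h2, br_mul_left c.cl, br_mul_right c.cl, br_mul_right c.cl,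
    br_eq_one.2 (om_comm hv hx), br_eq_one.2 (om_comm hu hy).symm, br_eq_one.2 (om_comm hv hu.1), mul_one, mul_one,
    mul_one]

/-- a chain `1 ≤ K ≤ P` -/
theorem Cx.mem_of_two (c : Cx F) (hP : Es F P) {D : Subgroup (MulAut P)} (h : Loc P (F.autGroup P) D) {α : MulAut P}
    (hα : α ∈ F.autGroup P) (hD : α ∉ D) {K : Subgroup G} (hZ : Zc G ≤ K) (hK : K ≤ P)
    (hαK : ∀ x ∈ K, fn α x ∈ K) {g : G} (hg : ∀ x ∈ K, g * x = x * g) : g ∈ P := by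
  refine h.mem_of_chain hα hD (K := fun i => match i with | 0 => ⊥ | 1 => K | _ + 2 => P) (m := 2) ?_ rfl
    (nonGen_bot P) ?_ ?_ ?_
  · rintro (_ | _ | i)
    exacts [bot_le, hK, le_rfl]
  · rintro (_ | _ | i) x hx
    · rw [Subgroup.mem_bot.1 hx, fn_map_one]
      exact Subgroup.one_mem _
    · exact hαK x hx
    · exact fn_mem α hx
  · rintro (_ | _ | i) x hx
    · rw [Subgroup.mem_bot.1 hx, mul_one, mul_inv_cancel]
      exact Subgroup.one_mem _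
    · exact nor_of c.cl hZ g hx
    · exact c.nor hP g hx
  · rintro (_ | _ | i) hi x hx
    · exact Subgroup.mem_bot.2 (br_eq_one.2 (hg x hx))
    · exact hZ (br_mem c.cl g x)
    · omega

/-- the stabilizer of the centre lies in `D` -/
theorem Cx.mem_of_stab (c : Cx F) (hP : Es F P) {D : Subgroup (MulAut P)} (h : Loc P (F.autGroup P) D) {α : MulAut P}
    (hα : α ∈ F.autGroup P) (hZ : ∀ z ∈ Zc G, fn α z ∈ Zc G) : α ∈ D := by
  by_contra hD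
  obtain ⟨t, ht⟩ := c.exists_not_mem hP
  exact ht (c.mem_of_two hP h hα hD le_rfl (c.zle hP) hZ fun x hx => zc hx t)

/-- `C(Ω₁ Z(P)) = P` -/
theorem Cx.mem_of_cent (c : Cx F) (hP : Es F P) {g : G} (hg : ∀ x ∈ Om P, g * x = x * g) : g ∈ P := by
  obtain ⟨D, h⟩ := c.loc hP
  obtain ⟨α, hα, hD⟩ := SetLike.not_le_iff_exists.1 h.ne
  exact c.mem_of_two hP h hα hD (c.zom (c.zle hP)) (om_le P) (fun x hx => fn_mem_inVS α hx) hg

theorem Cx.exists_move (c : Cx F) (hP : Es F P) : ∃ f, Kp F P f ∧ ∃ z ∈ Zc G, f z ∉ Zc G := by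
  obtain ⟨D, h⟩ := c.loc hP
  obtain ⟨t, r, α, h1⟩ := h.exists_dih₀
  obtain ⟨k, hk⟩ := h1.ord
  refine ⟨fn α, kp_of h1.mem (h1.prime.odd_of_ne_two h1.ne_two).pow hk h1.tsq h1.inv, ?_⟩
  by_contra h2
  push Not at h2
  exact h1.notMem (c.mem_of_stab hP h h1.mem h2)

theorem Cx.up_ne_bot (c : Cx F) (hP : Es F P) : Up F P ≠ ⊥ := by
  obtain ⟨f, hf, z, hz, h1⟩ := c.exists_move hP
  intro h
  have h2 := up_mem hf (c.zle hP hz)
  rw [h, Subgroup.mem_bot, inv_mul_eq_one] at h2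
  exact h1 (h2 ▸ hz)

theorem Cx.exists_om (c : Cx F) (hP : Es F P) : ∃ a ∈ Om P, a ∉ Zc G := by
  obtain ⟨f, hf, z, hz, h1⟩ := c.exists_move hP
  exact ⟨f z, mp_om hf.mp hf.mem (c.zom (c.zle hP) hz), h1⟩

omit [Finite G] in
theorem om_pow_odd {u : G} (hu : u ∈ Om P) {k : ℕ} (hk : Odd k) : u ^ k = u := by
  obtain ⟨j, rfl⟩ := hk
  rw [pow_succ, pow_mul, pow_two, om_sq hu, one_pow, one_mul]

/-- coprime action: `[P, f] = [Ω₁ Z(P), f]` -/
theorem Cx.exists_cob (c : Cx F) (hP : Es F P) (h : Kp F P f) {x : G} (hx : x ∈ P) :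
    ∃ a ∈ Om P, x⁻¹ * f x = a⁻¹ * f a := by
  have hu := c.dm hP h hx
  have h1 : ∀ n : ℕ, x⁻¹ * f^[n] x ∈ Om P ∧ ∃ a ∈ Om P, f a = (x⁻¹ * f x) ^ n * a * (x⁻¹ * f^[n] x) := by
    intro n
    induction n with
    | zero =>
      rw [Function.iterate_zero_apply, inv_mul_cancel]
      exact ⟨(Om P).one_mem, 1, (Om P).one_mem, by rw [h.mp.one, pow_zero, mul_one, mul_one]⟩
    | succ n ih =>
      obtain ⟨h2, a, ha, h3⟩ := ih
      have h4 : f (x⁻¹ * f^[n] x) = (x⁻¹ * f x) * (x⁻¹ * f^[n + 1] x) := by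
        rw [h.mp.mul (P.inv_mem hx) (h.iter_mem hx n), h.mp.inv hx, Function.iterate_succ_apply', ← om_inv hu]
        group
      have h5 : x⁻¹ * f^[n + 1] x ∈ Om P := by
        have h6 := mp_om h.mp h.mem h2
        rw [h4] at h6
        exact ((Om P).mul_mem_cancel_left hu).1 h6
      refine ⟨h5, a * (x⁻¹ * f^[n] x), (Om P).mul_mem ha h2, ?_⟩
      rw [h.mp.mul ha.1 h2.1, h3, h4, pow_succ, ← mul_assoc, mul_assoc ((x⁻¹ * f x) ^ n) a,
        mul_assoc ((x⁻¹ * f x) ^ n), om_comm hu ((Om P).mul_mem ha h2).1]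
      simp only [mul_assoc]
  obtain ⟨k, hk, h2⟩ := h.odd
  obtain ⟨-, a, ha, h3⟩ := h1 k
  rw [h2 x hx, inv_mul_cancel, mul_one, om_pow_odd hu hk] at h3
  exact ⟨a, ha, by rw [h3, ← om_comm hu ha.1, inv_mul_cancel_left]⟩

/-- coprime action: `Ω₁ Z(P) = [P, K] C(f)` -/
theorem Kp.exists_fix (h : Kp F P f) {a : G} (ha : a ∈ Om P) :
    ∃ b ∈ Om P, f b = b ∧ a⁻¹ * b ∈ Up F P := by
  have h0 : ∀ n : ℕ, f^[n] a ∈ Om P ∧ a⁻¹ * f^[n] a ∈ Up F P := by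
    intro n
    induction n with
    | zero => exact ⟨ha, by rw [Function.iterate_zero_apply, inv_mul_cancel]; exact Subgroup.one_mem _⟩
    | succ n ih =>
      rw [Function.iterate_succ_apply']
      refine ⟨mp_om h.mp h.mem ih.1, ?_⟩
      have h1 := (Up F P).mul_mem ih.2 (up_mem h ih.1.1)
      rwa [mul_assoc, mul_inv_cancel_left] at h1
  have h1 : ∀ n : ℕ, ∃ b ∈ Om P, f b * a = b * f^[n] a ∧ (a ^ n)⁻¹ * b ∈ Up F P := by
    intro n
    induction n with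
    | zero => exact ⟨1, (Om P).one_mem, by rw [h.mp.one]; rfl, by rw [pow_zero, inv_one, mul_one]; exact Subgroup.one_mem _⟩
    | succ n ih =>
      obtain ⟨b, hb, h2, h3⟩ := ih
      refine ⟨b * f^[n] a, (Om P).mul_mem hb (h0 n).1, ?_, ?_⟩
      · rw [h.mp.mul hb.1 (h0 n).1.1, mul_assoc, om_comm ha (h.mem _ (h0 n).1.1), ← mul_assoc, h2,
          Function.iterate_succ_apply']
      · have h4 := (Up F P).mul_mem h3 (h0 n).2
        have e : (a ^ (n + 1))⁻¹ * (b * f^[n] a) = (a ^ n)⁻¹ * b * (a⁻¹ * f^[n] a) := by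
          rw [pow_succ', mul_inv_rev, mul_assoc, mul_assoc, ← mul_assoc a⁻¹, om_comm hb (P.inv_mem ha.1), mul_assoc]
        rwa [e]
  obtain ⟨k, hk, h2⟩ := h.odd
  obtain ⟨b, hb, h3, h4⟩ := h1 k
  rw [h2 a ha.1] at h3
  rw [om_pow_odd ha hk] at h4
  exact ⟨b, hb, mul_right_cancel h3, h4⟩

end Cfsg.Agent.FS.N.C2
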