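import Cfsg.Agent.FS.N.C2.Edge

/-!
# S5288, class two: the pure lemmas applied to normal elementary abelian subgroups (helper53, project FS)
-/

set_option autoImplicit false

namespace Cfsg.Agent.FS.N.C2

open Cfsg Cfsg.FusionSystem Cfsg.Agent.H752 Cfsg.Agent.FS.Th

theorem cm_conj {V : Type} [CommGroup V] (d σ : MulAut V) (y : V) : d (cm σ y) = cm (d * σ * d⁻¹) (d y) := by
  rw [cm_apply, cm_apply, map_mul, MulAut.mul_apply, MulAut.mul_apply, MulAut.inv_apply_self]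

variable {G : Type} [Group G] [Finite G] {F : Sys G} {P Q E : Subgroup G}

theorem Cx.syl (c : Cx F) (hZ : Zc G ≤ E) {σ υ : MulAut E} (hσ : σ ∈ F.autGroup E) (hυ : υ ∈ F.autGroup E)
    (h : IsPGroup 2 (Subgroup.closure ({σ, υ} : Set (MulAut E)))) :
    ∃ (d : MulAut E) (g g' : G), Cj g (d * σ * d⁻¹) ∧ Cj g' (d * υ * d⁻¹) := by
  have : Fact (Nat.Prime 2) := ⟨Nat.prime_two⟩
  obtain ⟨d, -, h1⟩ := exists_conj_le_autInducedBy (c.pg.to_subgroup ⊤) c.hy.sat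
    (isFullyNormalized_of_normal F le_top fun s _ x hx => nor_of c.cl hZ s hx)
    ((Subgroup.closure_le _).2 (Set.insert_subset hσ (Set.singleton_subset_iff.2 hυ))) h
  obtain ⟨g, hg⟩ := mem_autTop_iff.1 (h1 σ (Subgroup.subset_closure (Set.mem_insert _ _)))
  obtain ⟨g', hg'⟩ := mem_autTop_iff.1 (h1 υ (Subgroup.subset_closure (Set.mem_insert_of_mem _ rfl)))
  exact ⟨d, g, g', hg, hg'⟩

omit [Finite G] in
theorem cm_cj (hc : Cl2 G) (hab : ∀ x ∈ E, ∀ y ∈ E, x * y = y * x) (hsq : ∀ x ∈ E, x * x = 1) {g : G} {γ : MulAut E}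
    (h : Cj g γ) (x : E) : ((@cm E (cg E hab) γ x : E) : G) = br g x := by
  show (x : G) * ((γ x : E) : G) = _
  rw [h x, conj_eq, ← zc (br_mem hc g x), ← mul_assoc, hsq x x.2, one_mul]

theorem Cx.quad (c : Cx F) (hZ : Zc G ≤ E) (hab : ∀ x ∈ E, ∀ y ∈ E, x * y = y * x) (hsq : ∀ x ∈ E, x * x = 1) :
    @Quad E (cg E hab) (F.autGroup E) := by
  intro σ hσ υ hυ h x
  obtain ⟨d, g, g', h1, h2⟩ := c.syl hZ hσ hυ h
  let _ := cg E hab
  refine d.injective ?_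
  rw [cm_conj, cm_conj, map_one]
  exact Subtype.ext (by rw [cm_cj c.cl hab hsq h1, cm_cj c.cl hab hsq h2, br_zr (br_mem c.cl _ _)]; rfl)

omit [Finite G] in
theorem Kp.of_sq {f : G → G} (h : Kp F P f) (hE : E ≤ P) (hm : ∀ x ∈ E, f x ∈ E) {K : Subgroup G}
    (h3 : ∀ x ∈ E, x⁻¹ * f (f x) ∈ K) {x : G} (hx : x ∈ E) : x⁻¹ * f x ∈ K := by
  have h0 : ∀ n : ℕ, f^[n] x ∈ E := by
    intro n
    induction n with
    | zero => exact hx
    | succ n ih => rw [Function.iterate_succ_apply']; exact hm _ ih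
  have h4 : ∀ j : ℕ, x⁻¹ * f^[2 * j] x ∈ K := by
    intro j
    induction j with
    | zero => rw [Nat.mul_zero, Function.iterate_zero_apply, inv_mul_cancel]; exact K.one_mem
    | succ j ih =>
      have e : x⁻¹ * f^[2 * (j + 1)] x = (x⁻¹ * f^[2 * j] x) * ((f^[2 * j] x)⁻¹ * f (f (f^[2 * j] x))) := by
        rw [Nat.mul_succ, add_comm, Function.iterate_add_apply, mul_assoc, mul_inv_cancel_left]
        rfl
      rw [e]
      exact K.mul_mem ih (h3 _ (h0 _))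
  obtain ⟨k, ⟨j, rfl⟩, h5⟩ := h.odd
  have h6 := h4 (j + 1)
  rwa [show 2 * (j + 1) = (2 * j + 1) + 1 by ring, Function.iterate_succ_apply', h5 x (hE hx)] at h6

/-- a map is trivial or inverted by an element outside -/
theorem Cx.kp_out (c : Cx F) (hP : Es F P) {f : G → G} (h : Kp F P f) :
    (∀ x ∈ P, f x = x) ∨ ∃ t, t ∉ P ∧ ∀ x ∈ P, f (br t (f x)) * f (f x) = br t x * x := by
  obtain ⟨t, -, h1⟩ := h.twice c.cl (c.zle hP)
  by_cases ht : t ∈ P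
  · refine Or.inl fun x hx => h.fix hx ?_
    obtain ⟨u, hu, h2⟩ := c.eq_mul hP h hx
    have h3 := h1 x hx
    rw [(c.br_cp hP ht (h.mem x hx)).2 f h] at h3
    conv_lhs at h3 => enter [1, 2]; rw [h2]
    rw [br_mul_right c.cl, br_eq_one.2 (om_comm hu ht), mul_one] at h3
    exact mul_left_cancel h3
  · exact Or.inr ⟨t, ht, h1⟩

/-- **the transvection lemma in the system** -/
theorem Cx.tv (hT : BoxTV) (c : Cx F) (hP : Rg F 2 P) (hQ : Es F Q) (h1 : Om P ≤ Q) {w : G} (hw : w ∈ Q)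
    (hwP : w ∉ P) {β α : G → G} (hβ : Kp F P β) (hα : Kp F Q α) :
    (∀ x ∈ P, α (x⁻¹ * β x) = x⁻¹ * β x) ∧ ∀ x ∈ Q, β (x⁻¹ * α x) = x⁻¹ * α x := by
  have h2 : Om Q ≤ P := c.om_le_symm hP.es h1
  rcases c.kp_out hP.es hβ with h3 | ⟨t, ht, h3⟩
  · exact ⟨fun x hx => by rw [h3 x hx, inv_mul_cancel, hα.mp.one], fun x hx => h3 _ (h2 (c.dm hQ hα hx))⟩
  have hZP := c.zom (c.zle hP.es)
  have hZQ := c.zom (c.zle hQ)
  have := normal_of c.cl hZQ
  set E := Om P ⊔ Om Q with hE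
  have hEP : E ≤ P := sup_le (om_le P) h2
  have hEQ : E ≤ Q := sup_le h1 (om_le Q)
  have hZ : Zc G ≤ E := hZP.trans le_sup_left
  have hd : ∀ x ∈ E, ∃ a ∈ Om P, ∃ b ∈ Om Q, a * b = x := fun x hx => Subgroup.mem_sup_of_normal_right.1 hx
  have hab : ∀ x ∈ E, ∀ y ∈ E, x * y = y * x := fun x hx y hy => by
    obtain ⟨a, ha, b, hb, rfl⟩ := hd x hx
    rw [mul_assoc, ← om_comm hb (hEQ hy), ← mul_assoc, ← om_comm ha (hEP hy), mul_assoc]
  have hsq : ∀ x ∈ E, x * x = 1 := fun x hx => by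
    obtain ⟨a, ha, b, hb, rfl⟩ := hd x hx
    rw [mul_assoc, ← mul_assoc b, om_comm ha (h2 hb), mul_assoc, om_sq hb, mul_one, om_sq ha]
  have hβE : ∀ x ∈ E, β x ∈ E := fun x hx => by
    obtain ⟨u, hu, h4⟩ := c.eq_mul hP.es hβ (hEP hx)
    rw [h4]
    exact E.mul_mem hx (le_sup_left (a := Om P) hu)
  have hαE : ∀ x ∈ E, α x ∈ E := fun x hx => by
    obtain ⟨u, hu, h4⟩ := c.eq_mul hQ hα (hEQ hx)
    rw [h4]
    exact E.mul_mem hx (le_sup_right (a := Om P) hu)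
  obtain ⟨b, hb, b1, b2⟩ := hβ.aut hEP hβE
  obtain ⟨a, ha, a1, a2⟩ := hα.aut hEQ hαE
  obtain ⟨p, hp⟩ := exists_cj (P := E) (g := w) fun x hx => nor_of c.cl hZ w hx
  obtain ⟨v, hv, hv'⟩ := two_cases (hP.card_wt c hwP).le
  have h4 : ∀ x ∈ E, β (br w (β x)) * β (β x) = br w x * x := fun x hx => by
    have hy : w⁻¹ * t ∈ P := (Subgroup.mul_mem_iff_of_index_two hP.idx).2 (by simp [ht, hwP])
    have h5 := h3 x (hEP hx)
    obtain ⟨u, hu, h6⟩ := c.eq_mul hP.es hβ (hEP hx)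
    have h7 : br (w⁻¹ * t) (β x) = br (w⁻¹ * t) x := by
      rw [h6, br_mul_right c.cl, br_eq_one.2 (om_comm hu hy), mul_one]
    rw [← mul_inv_cancel_left w t, br_mul_left c.cl w (w⁻¹ * t), br_mul_left c.cl w (w⁻¹ * t),
      hβ.mp.mul (hEP (hZ (br_mem c.cl _ _))) (hEP (hZ (br_mem c.cl _ _))), h7, (c.br_cp hP.es hy (hEP hx)).2 β hβ,
      zc (br_mem c.cl (w⁻¹ * t) x), zc (br_mem c.cl (w⁻¹ * t) x), mul_assoc, mul_assoc] at h5
    exact mul_left_cancel h5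
  have h5 : a * b = b * a := by
    refine @hT E (cg E hab) inferInstance (fun x => Subtype.ext (hsq x x.2)) (F.autGroup E) (c.quad hZ hab hsq) p
      (H802.autInducedBy_le_autGroup F le_top hp.mem) b hb a ha ⟨v, hZ (wt_le c P w hv)⟩ (fun x => ?_) b1 ?_ a1 ?_
    · obtain ⟨x₁, hx₁, x₂, hx₂, h6⟩ := hd x x.2
      have h7 : br w x = br w x₁ := by rw [← h6, br_mul_right c.cl, br_eq_one.2 (om_comm hx₂ hw), mul_one]
      rcases hv' _ (br_mem_wt c w hx₁) with h8 | h8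
      · exact Or.inl (Subtype.ext (by rw [hp x, conj_eq, h7, h8, one_mul]))
      · exact Or.inr (Subtype.ext (by rw [hp x, conj_eq, h7, h8, ← zc (wt_le c P w hv)]; rfl))
    · have h6 : b * (p * b) = p := MulEquiv.ext fun x => Subtype.ext (by
        rw [MulAut.mul_apply, MulAut.mul_apply, b2, hp, hp, b2, conj_eq, conj_eq,
          hβ.mp.mul (hEP (hZ (br_mem c.cl _ _))) (hβ.mem _ (hEP x.2)), h4 x x.2])
      exact mul_inv_eq_of_eq_mul (eq_inv_mul_of_mul_eq h6)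
    · refine MulEquiv.ext fun x => Subtype.ext ?_
      show ((a (p x) : E) : G) = ((p (a x) : E) : G)
      obtain ⟨u, hu, h6⟩ := c.eq_mul hQ hα (hEQ x.2)
      rw [a2, hp, hp, a2, conj_eq, conj_eq, hα.mp.mul (hEQ (hZ (br_mem c.cl _ _))) (hEQ x.2),
        (c.br_cp hQ hw (hEQ x.2)).2 α hα]
      conv_rhs => enter [1, 2]; rw [h6]
      rw [br_mul_right c.cl, br_eq_one.2 (om_comm hu hw), mul_one]
  have h6 : ∀ x ∈ E, α (β x) = β (α x) := fun x hx => by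
    have h7 := congrArg (fun γ : MulAut E => ((γ ⟨x, hx⟩ : E) : G)) h5
    simp only [MulAut.mul_apply, a2, b2] at h7
    exact h7
  let Φ : Subgroup G :=
    { carrier := {y | y ∈ E ∧ α y = y}
      one_mem' := ⟨E.one_mem, hα.mp.one⟩
      mul_mem' := fun {x y} hx hy => ⟨E.mul_mem hx.1 hy.1, by rw [hα.mp.mul (hEQ hx.1) (hEQ hy.1), hx.2, hy.2]⟩
      inv_mem' := fun {x} hx => ⟨E.inv_mem hx.1, by rw [hα.mp.inv (hEQ hx.1), hx.2]⟩ }
  have h7 : ∀ x ∈ E, br w x ∈ Φ := fun x hx => ⟨hZ (br_mem c.cl _ _), (c.br_cp hQ hw (hEQ hx)).2 α hα⟩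
  have h8 : ∀ x ∈ E, x⁻¹ * β x ∈ Φ := fun x hx => by
    refine hβ.of_sq hEP hβE (fun y hy => ?_) hx
    have h9 := h7 _ (hβE y hy)
    have h10 : β (br w (β y)) ∈ Φ := ⟨hβE _ h9.1, by rw [h6 _ h9.1, h9.2]⟩
    have h11 : y⁻¹ * β (β y) = (β (br w (β y)))⁻¹ * br w y := by
      rw [eq_inv_mul_of_mul_eq (h4 y hy), ← mul_assoc, hab _ (E.inv_mem hy) _ (E.inv_mem h10.1),
        ← zc (br_mem c.cl w y), mul_assoc, inv_mul_cancel_left]
    rw [h11]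
    exact Φ.mul_mem (Φ.inv_mem h10) (h7 y hy)
  refine ⟨fun x hx => ?_, fun x hx => ?_⟩
  · obtain ⟨y, hy, h9⟩ := c.exists_cob hP.es hβ hx
    rw [h9]
    exact (h8 y (le_sup_left (a := Om P) hy)).2
  · obtain ⟨y, hy, h9⟩ := c.exists_cob hQ hα hx
    have hyE : y ∈ E := le_sup_right (a := Om P) hy
    obtain ⟨h10, h11⟩ := h8 y hyE
    have h12 : β y = y * (y⁻¹ * β y) := (mul_inv_cancel_left _ _).symm
    generalize y⁻¹ * β y = φ at h10 h11 h12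
    rw [h9, hβ.mp.mul (P.inv_mem (hEP hyE)) (hEP (hαE y hyE)), hβ.mp.inv (hEP hyE), ← h6 y hyE, h12,
      hα.mp.mul (hEQ hyE) (hEQ h10), h11, mul_inv_rev, mul_assoc, ← mul_assoc y⁻¹,
      ← hab φ h10 _ (E.mul_mem (E.inv_mem hyE) (hαE y hyE)), inv_mul_cancel_left]

theorem Cx.tv_up (hT : BoxTV) (c : Cx F) (hP : Rg F 2 P) (hQ : Es F Q) (h1 : Om P ≤ Q) (h2 : ¬ Q ≤ P) :
    Up F P ≤ Cp F Q ∧ Up F Q ≤ Cp F P := by
  obtain ⟨w, hw, hwP⟩ := SetLike.not_le_iff_exists.1 h2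
  exact ⟨up_le fun β hβ x hx => ⟨h1 (c.dm hP.es hβ hx), fun α hα => (c.tv hT hP hQ h1 hw hwP hβ hα).1 x hx⟩,
    up_le fun α hα x hx => ⟨c.om_le_symm hP.es h1 (c.dm hQ hα hx),
      fun β hβ => (c.tv hT hP hQ h1 hw hwP hβ hα).2 x hx⟩⟩

/-- **the spread lemma in the system** -/
theorem Rg.sp (hS : BoxSp) {q : ℕ} (h : Rg F q P) (c : Cx F) (hq : q ≤ 4) :
    (∀ t, ∀ a ∈ Om P, br t a ∈ Cp F P → br t a = 1) ∧ (Cp F P).relIndex (Zc G) ≤ q ∧ Om P ≤ Up F P ⊔ Zc G := by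
  have hZ := c.zom (c.zle h.es)
  have := normal_of c.cl hZ
  obtain ⟨f₀, hf₀, z₀, hz₀, h0⟩ := c.exists_move h.es
  have hm : ∀ f, Kp F P f → ∀ x ∈ Om P, f x ∈ Om P := fun f hf x hx => mp_om hf.mp hf.mem hx
  obtain ⟨a, ha, -, a2⟩ := hf₀.aut (om_le P) (hm _ hf₀)
  let κ : G →* MulAut (Om P) := MulAut.conjNormal
  have hκ : ∀ g, Cj g (κ g) := fun _ _ => rfl
  have hone : ∀ g ∈ P, ∀ γ : MulAut (Om P), Cj g γ → γ = 1 := fun g hg γ h1 => MulEquiv.ext fun x => Subtype.ext (by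
    rw [h1 x, om_comm x.2 hg, mul_inv_cancel_right]
    rfl)
  have hker : κ.ker = P := le_antisymm (fun g hg => c.mem_of_cent h.es fun x hx => by
    have h1 := hκ g ⟨x, hx⟩
    rw [show κ g = 1 from hg] at h1
    exact mul_inv_eq_iff_eq_mul.1 h1.symm) fun g hg => hone g hg _ (hκ g)
  have hsq : ∀ x ∈ Om P, x * x = 1 := fun _ hx => om_sq hx
  obtain ⟨s1, s2⟩ := @hS (Om P) (cg _ (om_ab P)) inferInstance (fun x => Subtype.ext (om_sq x.2)) (F.autGroup (Om P))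
    κ.range ((Zc G).subgroupOf (Om P))
    (fun σ hσ υ hυ σ1 υ1 h1 x hx => by
      obtain ⟨d, g, g', h2, h3⟩ := c.syl hZ hσ hυ h1
      have h4 : g ∉ P := fun h4 => σ1 (by
        have h5 := hone g h4 _ h2
        rwa [mul_inv_eq_one, mul_eq_left] at h5)
      have h5 := h2 (d x)
      rw [MulAut.mul_apply, MulAut.mul_apply, MulAut.inv_apply_self] at h5
      have h6 : ((d x : Om P) : G) ∈ Zc G := h.reg g h4 _ (d x).2 (mul_inv_eq_iff_eq_mul.1 (by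
        rw [← h5]
        exact congrArg (fun y => ((d y : Om P) : G)) hx))
      have h7 := h3 (d x)
      rw [MulAut.mul_apply, MulAut.mul_apply, MulAut.inv_apply_self, zc h6, mul_inv_cancel_right] at h7
      exact d.injective (Subtype.ext h7))
    (by
      rintro _ ⟨g, rfl⟩
      exact H802.autInducedBy_le_autGroup F le_top (hκ g).mem)
    (by
      rintro _ ⟨g, rfl⟩ x
      show ((@cm _ (cg _ (om_ab P)) (κ g) x : Om P) : G) ∈ Zc G
      rw [cm_cj c.cl (om_ab P) hsq (hκ g)]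
      exact br_mem c.cl _ _)
    (by
      rintro _ ⟨g, rfl⟩ g1 x
      refine ⟨fun h1 => h.reg g (fun h2 => g1 (hone g h2 _ (hκ g))) _ x.2 (mul_inv_eq_iff_eq_mul.1 ?_), fun h1 => ?_⟩
      · exact (hκ g x).symm.trans (congrArg Subtype.val h1)
      · exact Subtype.ext (by rw [hκ g x, zc (show (x : G) ∈ Zc G from h1), mul_inv_cancel_right]))
    (by
      rw [← Subgroup.index_ker, hker, h.idx]
      exact h.rel.symm)
    (h.rel.le.trans hq) a ha ⟨⟨z₀, hZ hz₀⟩, hz₀, fun h1 => h0 (by rw [← a2 ⟨z₀, hZ hz₀⟩]; exact h1)⟩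
  have k1 : ∀ t, ∀ x ∈ Om P, f₀ (br t x) = br t x → br t x = 1 := fun t x hx h1 => by
    have h2 := cm_cj c.cl (om_ab P) hsq (hκ t) ⟨x, hx⟩
    have h3 := s1 (κ t) ⟨t, rfl⟩ ⟨x, hx⟩ (by
      have h4 : a (@cm _ (cg _ (om_ab P)) (κ t) ⟨x, hx⟩) = @cm _ (cg _ (om_ab P)) (κ t) ⟨x, hx⟩ :=
        Subtype.ext (by rw [a2, h2, h1])
      rw [← h4]
      show ((a⁻¹ (a _) : Om P) : G) ∈ Zc G
      rw [MulAut.inv_apply_self, h2]
      exact br_mem c.cl _ _)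
    rw [← h2]
    exact congrArg Subtype.val h3
  refine ⟨fun t x hx h1 => k1 t x hx (h1.2 f₀ hf₀), ?_, fun x hx => ?_⟩
  · rw [← Subgroup.relIndex_subgroupOf hZ]
    have h1 : (((Zc G).subgroupOf (Om P)).comap (a⁻¹ : MulAut (Om P)).toMonoidHom).index = q :=
      (Subgroup.index_comap_of_surjective _ (a⁻¹ : MulAut (Om P)).surjective).trans h.rel
    refine le_trans ?_ ((rel_le_index _ ((Zc G).subgroupOf (Om P))).trans h1.le)
    rw [← Subgroup.inf_relIndex_right (Subgroup.comap _ _)]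
    refine rel_le_left ?_ _
    intro z hz
    refine ⟨z.2.1, fun f hf => ?_⟩
    show f z = z
    obtain ⟨b, hb, -, b2⟩ := hf.aut (om_le P) (hm _ hf)
    have h2 : ((b⁻¹⁻¹ z : Om P) : G) ∈ Zc G := s2 b⁻¹ ((F.autGroup _).inv_mem hb) z hz.2 hz.1
    rw [inv_inv, b2] at h2
    obtain ⟨t, -, h3⟩ := hf.twice c.cl (c.zle h.es)
    have h4 := h3 z z.2.1
    rw [br_zr h2, hf.mp.one, one_mul, br_zr (show (z : G) ∈ Zc G from hz.2), one_mul] at h4
    exact hf.fix z.2.1 h4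
  · obtain ⟨b, hb, h1, h2⟩ := hf₀.exists_fix hx
    rcases c.kp_out h.es hf₀ with h3 | ⟨t, ht, h3⟩
    · exact (h0 (by rw [h3 z₀ (c.zle h.es hz₀)]; exact hz₀)).elim
    have h4 := h3 b hb.1
    rw [h1, h1] at h4
    have h5 : b ∈ Zc G := h.reg t ht b hb (br_eq_one.1 (k1 t b hb (mul_right_cancel h4)))
    have e : x = b * (x⁻¹ * b)⁻¹ := by group
    rw [e]
    exact Subgroup.mul_mem _ (Subgroup.mem_sup_right h5) (Subgroup.inv_mem _ (Subgroup.mem_sup_left h2))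

end Cfsg.Agent.FS.N.C2
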