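import Cfsg.Agent.FS.N.C2.Ess

/-!
# S5288, class two: lower bounds for the commutators on `Ω₁ Z(P)` (helper53, project FS)
-/

set_option autoImplicit false

namespace Cfsg.Agent.FS.N.C2

open Cfsg Cfsg.FusionSystem Cfsg.Agent.H752 Cfsg.Agent.FS.Th

section abstract

variable {Γ V : Type} [Group Γ]

theorem odd_abs [Finite Γ] [Group V] (ρ : Γ →* MulAut V) (D : Subgroup Γ) (hker : ∀ a, ρ a = 1 → a ∈ D) {σ τ a : Γ}
    (σ2 : ρ σ * ρ σ = 1) (τ2 : ρ τ * ρ τ = 1) (fσ : Fr D σ) (fτ : Fr D τ) (σD : σ ∈ D) (τD : τ ∈ D)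
    (hsyl : ∀ c : Γ, (∃ k, c ^ 2 ^ k = 1) → ρ c ≠ 1 → ∃ d, Fr D (d * c * d⁻¹)) (ha : a ∉ D) :
    Odd (orderOf (ρ (σ * (a * τ * a⁻¹)))) := by
  set y := σ * (a * τ * a⁻¹) with hy
  by_contra h
  obtain ⟨m, hm⟩ := Nat.not_odd_iff_even.1 h
  obtain ⟨k, n, hn, hN⟩ := Nat.exists_eq_two_pow_mul_odd (orderOf_pos y).ne'
  have h0 : 0 < orderOf (ρ y) := (ρ.isOfFinOrder (isOfFinOrder_of_finite y)).orderOf_pos
  have h1 : ρ y ^ m ≠ 1 := pow_ne_one_of_lt_orderOf (by omega) (by omega)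
  have h2 : ρ y ^ m * ρ y ^ m = 1 := by rw [← pow_add, ← hm, pow_orderOf_eq_one]
  have h3 : ρ (y ^ (m * n)) = ρ y ^ m := by
    obtain ⟨j, rfl⟩ := hn
    rw [map_pow, pow_mul, pow_succ, pow_mul, pow_two, h2, one_pow, one_mul]
  have h4 : ∀ s : MulAut V, s * ρ y * s⁻¹ = (ρ y)⁻¹ → ρ y ^ m * s * (ρ y ^ m)⁻¹ * s⁻¹ = 1 := fun s hs => by
    have h5 : s * ρ y ^ m * s⁻¹ = (ρ y ^ m)⁻¹ := by rw [← conj_pow, hs, inv_pow]
    rw [inv_eq_of_mul_eq_one_right h2] at h5 ⊢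
    rw [mul_assoc, mul_assoc, ← mul_assoc s, h5, h2]
  have u2 : ρ (a * τ * a⁻¹) * ρ (a * τ * a⁻¹) = 1 := by
    have e : a * τ * a⁻¹ * (a * τ * a⁻¹) = a * (τ * τ) * a⁻¹ := by group
    rw [← map_mul, e, map_mul, map_mul, map_mul, τ2, mul_one, ← map_mul, mul_inv_cancel, map_one]
  have e1 : ρ y = ρ σ * ρ (a * τ * a⁻¹) := map_mul _ _ _
  set c := y ^ (m * n) with hc
  have c1 : c ∈ D := by
    refine fσ c ((D.mul_mem_cancel_right (D.inv_mem σD)).1 (hker _ ?_))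
    rw [map_mul, map_mul, map_mul, map_inv, map_inv, h3]
    refine h4 _ ?_
    rw [e1, ← mul_assoc, σ2, one_mul, mul_inv_rev, inv_eq_of_mul_eq_one_right u2]
  have c2 : a⁻¹ * c * a ∈ D := by
    refine fτ _ ((D.mul_mem_cancel_right (D.inv_mem τD)).1 (hker _ ?_))
    have e : a⁻¹ * c * a * τ * (a⁻¹ * c * a)⁻¹ * τ⁻¹ =
        a⁻¹ * (c * (a * τ * a⁻¹) * c⁻¹ * (a * τ * a⁻¹)⁻¹) * a := by group
    have e2 : ρ (c * (a * τ * a⁻¹) * c⁻¹ * (a * τ * a⁻¹)⁻¹) = 1 := by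
      rw [map_mul, map_mul, map_mul, map_inv, map_inv, h3]
      refine h4 _ ?_
      rw [e1, mul_assoc, mul_inv_cancel_right, mul_inv_rev, inv_eq_of_mul_eq_one_right u2,
        inv_eq_of_mul_eq_one_right σ2]
    rw [e, map_mul, map_mul, e2, mul_one, ← map_mul, inv_mul_cancel, map_one]
  obtain ⟨d, hd⟩ := hsyl c ⟨k, by rw [hc, ← pow_mul, mul_assoc, mul_comm n, ← hN, mul_comm, pow_mul,
    pow_orderOf_eq_one, one_pow]⟩ (h3 ▸ h1)
  have d1 : d⁻¹ ∈ D := hd _ (by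
    have e : d⁻¹ * (d * c * d⁻¹) * d⁻¹⁻¹ = c := by group
    rwa [e])
  have d2 : a⁻¹ * d⁻¹ ∈ D := hd _ (by
    have e : a⁻¹ * d⁻¹ * (d * c * d⁻¹) * (a⁻¹ * d⁻¹)⁻¹ = a⁻¹ * c * a := by group
    rwa [e])
  exact ha (D.inv_mem_iff.1 ((D.mul_mem_cancel_right d1).1 d2))

theorem fix_of_odd [Group V] {s u : MulAut V} (h : Odd (orderOf (s * u))) {w e : V} (h1 : u w = w) (h2 : s w = e * w)
    (h3 : u e = e) (h4 : s e = e) (h5 : e * e = 1) : e = 1 := by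
  have h6 : (s * u) w = w := by
    refine iter_of_sq (f := ⇑(s * u)) h ?_ ?_
    · have e1 : ∀ n : ℕ, (⇑(s * u))^[n] w = ((s * u) ^ n) w := by
        intro n
        induction n with
        | zero => rfl
        | succ n ih => rw [Function.iterate_succ_apply', ih, pow_succ', MulAut.mul_apply _ (s * u)]
      rw [e1, pow_orderOf_eq_one, MulAut.one_apply]
    · rw [MulAut.mul_apply _ s u w, h1, h2, MulAut.mul_apply, map_mul, h3, h1, map_mul, h4, h2, ← mul_assoc, h5, one_mul]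
  rw [MulAut.mul_apply, h1, h2] at h6
  exact mul_right_cancel (h6.trans (one_mul w).symm)

end abstract

variable {G : Type} [Group G]

/-- an abelian subgroup as a commutative group -/
@[reducible] def cg (E : Subgroup G) (h : ∀ x ∈ E, ∀ y ∈ E, x * y = y * x) : CommGroup E :=
  { (inferInstance : Group E) with mul_comm := fun x y => Subtype.ext (h x x.2 y y.2) }

theorem om_ab (P : Subgroup G) : ∀ x ∈ Om P, ∀ y ∈ Om P, x * y = y * x := fun _ hx _ hy => om_comm hy hx.1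

theorem exists_third {P : Subgroup G} (h : 2 < P.index) (t : G) : ∃ s, s ∉ P ∧ s⁻¹ * t ∉ P := by
  by_contra h1
  push Not at h1
  have h2 : P.index ∣ 2 := Subgroup.index_dvd_two_iff.2 ⟨t, fun b => by
    by_cases hb : b ∈ P
    · exact Or.inr hb
    · have h3 := h1 b⁻¹ fun h4 => hb (P.inv_mem_iff.1 h4)
      rw [inv_inv] at h3
      exact Or.inl h3⟩
  have := Nat.le_of_dvd (by norm_num) h2
  omega

variable [Finite G] {F : Sys G} {P : Subgroup G}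

/-- the module `Ω₁ Z(P)` -/
theorem Cx.exists_mod (c : Cx F) (hP : Es F P) :
    ∃ (ρ : F.autGroup P →* MulAut (Om P)) (κ : G →* F.autGroup P),
      (∀ (α : F.autGroup P) (x : Om P), ((ρ α x : Om P) : G) = fn α.1 x) ∧ ∀ g, Cj g (κ g).1 := by
  have hn := normal_of c.cl (c.zle hP)
  refine ⟨MonoidHom.mk' (fun α => ⟨⟨fun x => ⟨fn α.1 x, fn_mem_inVS _ x.2⟩, fun x => ⟨fn α.1⁻¹ x, fn_mem_inVS _ x.2⟩,
      fun x => Subtype.ext (fn_inv_fn _ x.2.1), fun x => Subtype.ext (fn_fn_inv _ x.2.1)⟩,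
      fun x y => Subtype.ext (fn_map_mul _ x.2.1 y.2.1)⟩)
      fun a b => MulEquiv.ext fun x => Subtype.ext (fn_mul _ _ x.2.1),
    (MulAut.conjNormal (H := P)).codRestrict _ fun g =>
      (mp_conj F le_top (Subgroup.mem_top g)).mem_autGroup fun x hx => rfl, fun _ _ => rfl, fun _ _ => rfl⟩

/-- the local data on the module -/
structure Md (F : Sys G) (P : Subgroup G) (D : Subgroup (MulAut P)) (ρ : F.autGroup P →* MulAut (Om P))
    (κ : G →* F.autGroup P) : Prop where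
  loc : Loc P (F.autGroup P) D
  rho : ∀ (α : F.autGroup P) (x : Om P), ((ρ α x : Om P) : G) = fn α.1 x
  kap : ∀ g, Cj g (κ g).1

theorem Cx.md (c : Cx F) (hP : Es F P) : ∃ D ρ κ, Md F P D ρ κ := by
  obtain ⟨D, h⟩ := c.loc hP
  obtain ⟨ρ, κ, h1, h2⟩ := c.exists_mod hP
  exact ⟨D, ρ, κ, h, h1, h2⟩

namespace Md

variable {D : Subgroup (MulAut P)} {ρ : F.autGroup P →* MulAut (Om P)} {κ : G →* F.autGroup P}

omit [Finite G] in
theorem rk (h : Md F P D ρ κ) (g : G) (x : Om P) : ((ρ (κ g) x : Om P) : G) = g * x * g⁻¹ := by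
  rw [h.rho, (h.kap g).fn x.2.1]

omit [Finite G] in
theorem rk_one (h : Md F P D ρ κ) {g : G} (hg : g ∈ P) : ρ (κ g) = 1 := MulEquiv.ext fun x => Subtype.ext (by
  rw [h.rk, om_comm x.2 hg, mul_inv_cancel_right]
  rfl)

omit [Finite G] in
theorem fr (h : Md F P D ρ κ) {g : G} (hg : g ∉ P) : Fr (D.subgroupOf (F.autGroup P)) (κ g) := fun b hb =>
  h.loc.se b b.2 g _ hg (h.kap g) hb

omit [Finite G] in
theorem kD (h : Md F P D ρ κ) (g : G) : κ g ∈ D.subgroupOf (F.autGroup P) := h.loc.autD (h.kap g).mem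

theorem sq (h : Md F P D ρ κ) (c : Cx F) (hP : Es F P) (g : G) : ρ (κ g) * ρ (κ g) = 1 := by
  rw [← map_mul, ← map_mul]
  exact h.rk_one (c.zle hP (c.sq_mem g))

theorem ker (h : Md F P D ρ κ) (c : Cx F) (hP : Es F P) (a : F.autGroup P) (ha : ρ a = 1) :
    a ∈ D.subgroupOf (F.autGroup P) :=
  c.mem_of_stab hP h.loc (α := a.1) a.2 fun z hz => by
    rw [← h.rho a ⟨z, c.zom (c.zle hP) hz⟩, ha]
    exact hz

/-- the odd order lemma -/
theorem odd (h : Md F P D ρ κ) (c : Cx F) (hP : Es F P) {s t : G} (hs : s ∉ P) (ht : t ∉ P) {a : F.autGroup P}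
    (ha : a ∉ D.subgroupOf (F.autGroup P)) : Odd (orderOf (ρ (κ s * (a * κ t * a⁻¹)))) := by
  have := Loc.finAut P
  refine odd_abs ρ _ (h.ker c hP) (h.sq c hP s) (h.sq c hP t) (h.fr hs) (h.fr ht) (h.kD s) (h.kD t)
    (fun y ⟨k, hk⟩ hy => ?_) ha
  obtain ⟨d, hd, h1⟩ := h.loc.exists_conj_le (N := Subgroup.zpowers y.1) ((Subgroup.zpowers_le).2 y.2)
    (isPGroup_zpowers_of_pow (congrArg Subtype.val hk))
  obtain ⟨g, hg⟩ := mem_autTop_iff.1 (h1 _ (Subgroup.mem_zpowers _))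
  have e : (⟨d, hd⟩ : F.autGroup P) * y * (⟨d, hd⟩ : F.autGroup P)⁻¹ = κ g := Subtype.ext (hg.unique (h.kap g))
  refine ⟨⟨d, hd⟩, e ▸ h.fr fun h2 => hy ?_⟩
  have h3 := h.rk_one h2
  rw [← e, map_mul, map_mul, map_inv, mul_inv_eq_one, mul_eq_left] at h3
  exact h3

/-- the stabilizer lemma -/
theorem stab (h : Md F P D ρ κ) (c : Cx F) (hP : Es F P) (h2 : 2 < P.index) {t e e' : G} (ht : t ∉ P) (he : e ∈ Zc G)
    (he' : e' ∈ Zc G) (h4 : ∀ x ∈ Om P, br t x = 1 ∨ br t x = e ∨ br t x = e' ∨ br t x = e * e') {b : F.autGroup P}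
    (hb : fn b.1 e = e) : b ∈ D.subgroupOf (F.autGroup P) := by
  obtain ⟨s, hs, hst⟩ := exists_third h2 t
  let _ := cg (Om P) (om_ab P)
  have hz := c.zom (c.zle hP)
  refine nt_mod ρ (fun x => Subtype.ext (om_sq x.2)) _ (τ := κ t) (h := κ s) (e := ⟨e, hz he⟩) (e' := ⟨e', hz he'⟩)
    (h.sq c hP t) (h.kD s) ?_ ?_ (fun a ha => ?_) (h.ker c hP) ?_ ?_ ?_ fun x => ?_
  · rw [← map_inv]
    exact h.fr fun h5 => hs (P.inv_mem_iff.1 h5)
  · rw [← map_inv, ← map_mul]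
    exact h.fr hst
  · obtain ⟨y, -, r, m, h1⟩ := h.loc.exists_dih' a.2 ha ht (c.zle hP (c.sq_mem t)) (h.kap t)
    obtain ⟨k, hk⟩ := h1.ord
    exact ⟨m, r ^ k, (h1.prime.odd_of_ne_two h1.ne_two).pow, h1.notMem, Subtype.ext hk⟩
  · exact Subtype.ext (by rw [h.rk, zc he, mul_inv_cancel_right])
  · exact Subtype.ext (by rw [h.rk, zc he, mul_inv_cancel_right])
  · exact Subtype.ext (by rw [h.rho]; exact hb)
  · have e1 : ((cm (ρ (κ t)) x : Om P) : G) = br t x := by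
      show (x : G) * ((ρ (κ t) x : Om P) : G) = _
      rw [h.rk, conj_eq, ← zc (br_mem c.cl t x), ← mul_assoc, om_sq x.2, one_mul]
    simp only [Subtype.ext_iff, e1]
    exact h4 x x.2

end Md

/-- **no transvections** -/
theorem Cx.nt (c : Cx F) (hP : Es F P) (h2 : 2 < P.index) {t v : G} (ht : t ∉ P)
    (hv : ∀ x ∈ Om P, br t x = 1 ∨ br t x = v) : False := by
  obtain ⟨D, ρ, κ, h⟩ := c.md hP
  obtain ⟨a, ha, haD⟩ := SetLike.not_le_iff_exists.1 h.loc.ne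
  by_cases hz : v ∈ Zc G
  · exact haD (h.stab c hP h2 ht (Zc G).one_mem hz (b := ⟨a, ha⟩) (fun x hx => (hv x hx).elim Or.inl
      fun h3 => Or.inr (Or.inr (Or.inl h3))) (fn_map_one a))
  · exact ht (c.mem_of_cent hP fun x hx => br_eq_one.1 ((hv x hx).resolve_right fun h3 => hz (h3 ▸ br_mem c.cl t x)))

theorem four_cases' {U : Subgroup G} (h2 : ∀ x ∈ U, x * x = 1) (h4 : Nat.card U ≤ 4) {e : G} (he : e ∈ U)
    (he1 : e ≠ 1) : ∃ e' ∈ U, ∀ x ∈ U, x = 1 ∨ x = e ∨ x = e' ∨ x = e * e' := by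
  classical
  by_cases h : ∀ x ∈ U, x = 1 ∨ x = e
  · exact ⟨1, U.one_mem, fun x hx => (h x hx).elim Or.inl fun h1 => Or.inr (Or.inl h1)⟩
  push Not at h
  obtain ⟨e', he', h1⟩ := h
  refine ⟨e', he', fun x hx => ?_⟩
  have h5 : ({1, e, e', e * e'} : Set G) ⊆ U := by
    intro x hx
    simp only [Set.mem_insert_iff, Set.mem_singleton_iff] at hx
    rcases hx with rfl | rfl | rfl | rfl
    exacts [U.one_mem, he, he', U.mul_mem he he']
  have h3 : ({1, e, e', e * e'} : Set G).ncard = 4 := by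
    rw [Set.ncard_eq_four]
    refine ⟨1, e, e', e * e', he1.symm, Ne.symm h1.1, fun h => h1.2 ?_, Ne.symm h1.2, fun h => h1.1 ?_,
      fun h => he1 ?_, rfl⟩
    · exact mul_left_cancel (h.symm.trans (h2 e he).symm)
    · exact (left_eq_mul.1 h)
    · exact (right_eq_mul.1 h)
  have h6 := Set.eq_of_subset_of_ncard_le h5 (by rw [h3]; exact h4)
  have h7 : x ∈ ({1, e, e', e * e'} : Set G) := h6 ▸ hx
  simpa only [Set.mem_insert_iff, Set.mem_singleton_iff] using h7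

/-- `[Ω₁ Z(P), t]` -/
def Wt (c : Cx F) (P : Subgroup G) (t : G) : Subgroup G := (Om P).map (brR c.cl t)

omit [Finite G] in
theorem wt_le (c : Cx F) (P : Subgroup G) (t : G) : Wt c P t ≤ Zc G := by
  rintro _ ⟨x, -, rfl⟩
  exact br_mem c.cl t x

omit [Finite G] in
theorem br_mem_wt (c : Cx F) (t : G) {x : G} (hx : x ∈ Om P) : br t x ∈ Wt c P t := ⟨x, hx, rfl⟩

theorem Cx.exists_br (c : Cx F) (hP : Es F P) {t : G} (ht : t ∉ P) : ∃ x ∈ Om P, br t x ≠ 1 := by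
  by_contra h
  push Not at h
  exact ht (c.mem_of_cent hP fun x hx => br_eq_one.1 (h x hx))

/-- **index at least eight needs rank at least three** -/
theorem Cx.g2 (c : Cx F) (hP : Es F P) (h8 : 4 < P.index) {t : G} (ht : t ∉ P) (h4 : Nat.card (Wt c P t) ≤ 4) :
    False := by
  obtain ⟨D, ρ, κ, h⟩ := c.md hP
  obtain ⟨a, ha, haD⟩ := SetLike.not_le_iff_exists.1 h.loc.ne
  obtain ⟨x₀, hx₀, he1⟩ := c.exists_br hP ht
  set e := br t x₀ with he
  have heZ : e ∈ Zc G := br_mem c.cl t x₀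
  have hZ := c.zle hP
  have hz := c.zom hZ
  obtain ⟨e', he', h5⟩ := four_cases' (fun x hx => c.zsq (wt_le c P t hx)) h4 (br_mem_wt c t hx₀) he1
  have hw : fn a e ∈ Om P := fn_mem_inVS a (hz heZ)
  let ψ : G →* G := MonoidHom.mk' (fun s => br t (fn a⁻¹ (br s (fn a e)))) fun s s' => by
    rw [br_mul_left c.cl, fn_map_mul _ (hZ (br_mem c.cl _ _)) (hZ (br_mem c.cl _ _)), br_mul_right c.cl]
  have h6 : ψ.range ≤ Wt c P t := by
    rintro _ ⟨s, rfl⟩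
    exact br_mem_wt c t (fn_mem_inVS _ (hz (br_mem c.cl _ _)))
  have h7 : ψ.ker.index ≤ 4 := by
    rw [Subgroup.index_ker]
    exact (Subgroup.card_le_of_le h6).trans h4
  obtain ⟨s, hs, hsP⟩ : ∃ s ∈ ψ.ker, s ∉ P := by
    by_contra h9
    push Not at h9
    have := Subgroup.index_antitone (show ψ.ker ≤ P from h9)
    omega
  have hs' : br t (fn a⁻¹ (br s (fn a e))) = 1 := hs
  have h9 := h.odd c hP hsP ht (a := ⟨a, ha⟩) haD
  rw [map_mul] at h9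
  have hu : ∀ y : Om P, br t (fn a⁻¹ y) = 1 → ρ (⟨a, ha⟩ * κ t * ⟨a, ha⟩⁻¹) y = y := fun y hy => by
    rw [map_mul, map_mul, MulAut.mul_apply, MulAut.mul_apply]
    have e1 : ρ (κ t) (ρ ⟨a, ha⟩⁻¹ y) = ρ ⟨a, ha⟩⁻¹ y := Subtype.ext (by
      rw [h.rk, h.rho, conj_eq]
      exact (congrArg (· * _) hy).trans (one_mul _))
    rw [e1, map_inv, MulAut.apply_inv_self]
  have h10 := fix_of_odd h9 (w := ⟨fn a e, hw⟩) (e := ⟨br s (fn a e), hz (br_mem c.cl _ _)⟩)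
    (hu _ (by rw [fn_inv_fn a (hZ heZ), br_zr heZ])) (Subtype.ext (by rw [h.rk, conj_eq]; rfl)) (hu _ hs')
    (Subtype.ext (by rw [h.rk, zc (br_mem c.cl _ _), mul_inv_cancel_right])) (Subtype.ext (c.zsq (br_mem c.cl _ _)))
  have h11 : s * fn a e = fn a e * s := br_eq_one.1 (congrArg Subtype.val h10)
  have h12 := h.stab c hP (by omega) ht heZ (wt_le c P t he') (fun x hx => h5 _ (br_mem_wt c t hx))
    (b := ⟨a, ha⟩⁻¹ * κ s * ⟨a, ha⟩⁻¹⁻¹) (by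
      show fn (a⁻¹ * (κ s).1 * a⁻¹⁻¹) e = e
      rw [inv_inv, fn_mul _ _ (hZ heZ), fn_mul _ _ hw.1, (h.kap s).fn hw.1, h11, mul_inv_cancel_right,
        fn_inv_fn a (hZ heZ)])
  exact haD ((Subgroup.inv_mem_iff _).1 (h.fr hsP _ h12))

end Cfsg.Agent.FS.N.C2
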