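import Cfsg.Agent.FS.N.C2.Mod

/-!
# S5288, class two: all edges have index two (helper53, project FS)
-/

set_option autoImplicit false

namespace Cfsg.Agent.FS.N.C2

open Cfsg Cfsg.FusionSystem Cfsg.Agent.H752 Cfsg.Agent.FS.Th

variable {G : Type} [Group G] {F : Sys G} {P Q R : Subgroup G}

theorem map_inv_map (θ : MulAut G) (P : Subgroup G) :
    (P.map (θ⁻¹ : MulAut G).toMonoidHom).map θ.toMonoidHom = P := by
  ext x
  rw [Asm.mem_map_iff', Asm.mem_map_iff', inv_inv, MulAut.apply_inv_self]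

/-- the product of the `[R, K]` over a family -/
def Us (F : Sys G) (s : Subgroup G → Prop) : Subgroup G := ⨆ R : {R // s R}, Up F R.1

theorem le_us {s : Subgroup G → Prop} (h : s R) : Up F R ≤ Us F s := le_iSup (fun R : {R // s R} => Up F R.1) ⟨R, h⟩

theorem us_le {s : Subgroup G → Prop} {K : Subgroup G} (h : ∀ R, s R → Up F R ≤ K) : Us F s ≤ K :=
  iSup_le fun R => h R.1 R.2

theorem us_map {s : Subgroup G → Prop} {θ : MulAut G} (hθ : Mp F ⊤ θ) (h : ∀ R, s R → s (R.map θ.toMonoidHom)) {w : G}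
    (hw : w ∈ Us F s) : θ w ∈ Us F s :=
  us_le (K := (Us F s).comap θ.toMonoidHom) (fun R hR _ hx => le_us (h R hR) (up_map hθ hx)) hw

variable [Finite G]

/-- an element fixed by all the odd maps is trivial -/
theorem Cx.eq_one (c : Cx F) {x : G} (hx : ∀ P, Es F P → x ∈ Cp F P) : x = 1 := by
  let N : Subgroup G :=
    { carrier := {x | ∀ P, Es F P → x ∈ Cp F P}
      one_mem' := fun P _ => (Cp F P).one_mem
      mul_mem' := fun ha hb P hP => (Cp F P).mul_mem (ha P hP) (hb P hP)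
      inv_mem' := fun ha P hP => (Cp F P).inv_mem (ha P hP) }
  have h : N = ⊥ := c.eq_bot (fun θ hθ w hw P hP => by
    have h1 := cp_map hθ (hw _ (es_map (mp_inv_top hθ) hP))
    rwa [map_inv_map] at h1) fun P hP => ⟨fun w hw => (hw P hP).1, fun f hf w hw => by
      rw [(hw P hP).2 f hf]
      exact hw⟩
  have h1 : x ∈ N := hx
  rwa [h, Subgroup.mem_bot] at h1

theorem Cx.not_fam (c : Cx F) {s : Subgroup G → Prop} (h1 : ∀ R, s R → Es F R)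
    (h2 : ∀ θ : MulAut G, Mp F ⊤ θ → ∀ R, s R → s (R.map θ.toMonoidHom))
    (h3 : ∀ Q, Es F Q → (∀ R, s R → Om R ≤ Q) ∧ (s Q ∨ ∀ R, s R → Up F R ≤ Cp F Q)) (hR : s R) : False := by
  have h : Us F s = ⊥ := c.eq_bot (fun θ hθ w hw => us_map hθ (h2 θ hθ) hw) fun Q hQ => by
    have h4 : Us F s ≤ Q := us_le fun R hR => (c.up_le_om (h1 R hR)).trans ((h3 Q hQ).1 R hR)
    refine ⟨h4, fun f hf w hw => ?_⟩
    rcases (h3 Q hQ).2 with h5 | h5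
    · rw [← mul_inv_cancel_left w (f w)]
      exact Subgroup.mul_mem _ hw (le_us h5 (up_mem hf (h4 hw)))
    · rw [(us_le h5 hw).2 f hf]
      exact hw
  exact c.up_ne_bot (h1 R hR) (le_bot_iff.1 (h ▸ le_us hR))

theorem Cx.le_center (c : Cx F) {C : Subgroup G} (hC : ∀ R, Es F R → C ≤ R)
    (hG : ∀ g, ∃ h y, y ∈ C ∧ g = h * y ∧ ∀ x ∈ C, h * x = x * h) : C ≤ Zc G := fun x hx =>
  Subgroup.mem_center_iff.2 fun g => by
    obtain ⟨h, y, hy, rfl, h1⟩ := hG g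
    rw [mul_assoc, br_eq_one.1 (c.eq_one fun R hR => c.br_cp hR (hC R hR hy) (hC R hR hx)), ← mul_assoc, h1 x hx,
      mul_assoc]

theorem Cx.card_center (c : Cx F) {K : Subgroup G} (hK : ∀ R, Es F R → K ≤ Cp F R) :
    Nat.card (Zc G) = K.relIndex (Zc G) := by
  have h : K = ⊥ := (Subgroup.eq_bot_iff_forall K).2 fun x hx => c.eq_one fun R hR => hK R hR hx
  rw [h, Subgroup.relIndex_bot_left]

/-- the partner is unique -/
theorem Cx.uniq (hS : BoxSp) (c : Cx F) (hP : Rg F 2 P) (hQ : Rg F 2 Q) (hR : Rg F 2 R) (h1 : ¬ Om Q ≤ P)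
    (h2 : ¬ Om R ≤ P) : Q = R := by
  obtain ⟨b, hb, hbP⟩ := SetLike.not_le_iff_exists.1 h1
  obtain ⟨b', hb', hbP'⟩ := SetLike.not_le_iff_exists.1 h2
  have s1 := (hP.sp hS c (by norm_num)).1
  have h3 : b * b' ∈ P := (Subgroup.mul_mem_iff_of_index_two hP.idx).2 (by simp [hbP, hbP'])
  have h4 : ∀ g, ∃ a ∈ Om P, br g b = br b a := fun g => by
    obtain ⟨a, ha, h5⟩ := hP.dec c hQ h1 g
    exact ⟨a, ha, by rw [← mul_inv_cancel_left a g, br_mul_left c.cl, br_eq_one.2 (om_comm hb h5), mul_one, c.br_symm]⟩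
  have h5 : ∀ g, ∃ a ∈ Om P, br g b' = br b a := fun g => by
    obtain ⟨a, ha, h5⟩ := hP.dec c hR h2 g
    refine ⟨a, ha, ?_⟩
    have e : b' = b * (b * b') := by rw [← mul_assoc, om_sq hb, one_mul]
    rw [← mul_inv_cancel_left a g, br_mul_left c.cl, br_eq_one.2 (om_comm hb' h5), mul_one, c.br_symm, e,
      br_mul_left c.cl, br_eq_one.2 (om_comm ha h3), mul_one]
  have h6 : br b b' = 1 := by
    obtain ⟨a, ha, h6⟩ := h5 b
    have h7 := c.sq_cp hP.es h3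
    have e : b * b' * (b * b') = br b b' := by
      unfold br
      rw [om_inv hb, om_inv hb']
      simp only [mul_assoc]
    rw [e, h6] at h7
    rw [h6, s1 b a ha h7]
  have h7 : b * b' ∈ Om P := by
    refine ⟨h3, ?_, fun y hy => ?_⟩
    · rw [mul_assoc, ← mul_assoc b', ← br_eq_one.1 h6, mul_assoc, om_sq hb', mul_one, om_sq hb]
    · obtain ⟨a, ha, e1⟩ := h4 y
      obtain ⟨a', ha', e2⟩ := h5 y
      have h8 := c.br_cp hP.es hy h3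
      have e : br y (b * b') = br b (a * a') := by rw [br_mul_right c.cl, br_mul_right c.cl, e1, e2]
      rw [e] at h8
      exact br_eq_one.1 (e.trans (s1 b _ ((Om P).mul_mem ha ha') h8))
  have h8 : b * b' ∈ Zc G := hP.reg b hbP _ h7 (by rw [mul_assoc, ← br_eq_one.1 h6])
  have h9 : ∀ t, t * b = b * t ↔ t * b' = b' * t := fun t => by
    have h10 := br_zr h8 t
    rw [br_mul_right c.cl] at h10
    rw [← br_eq_one, ← br_eq_one]
    exact ⟨fun h => by rwa [h, one_mul] at h10, fun h => by rwa [h, mul_one] at h10⟩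
  ext t
  exact ⟨fun ht => hR.mem hb' (fun h => hbP' (c.zle hP.es h)) ((h9 t).1 (om_comm hb ht)),
    fun ht => hQ.mem hb (fun h => hbP (c.zle hP.es h)) ((h9 t).2 (om_comm hb' ht))⟩

/-- all edges have index two -/
def W2 (F : Sys G) : Prop := ∀ P Q, Es F P → Es F Q → ¬ Om Q ≤ P → Rg F 2 P

/-- an edge of index two -/
structure E2 (F : Sys G) (P Q : Subgroup G) : Prop where
  l : Rg F 2 P
  r : Rg F 2 Q
  e : ¬ Om Q ≤ P

theorem E2.symm (h : E2 F P Q) (c : Cx F) : E2 F Q P := ⟨h.r, h.l, fun h1 => h.e (c.om_le_symm h.l.es h1)⟩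

theorem W2.edge (hT : BoxTV) (c : Cx F) (h : W2 F) (hR : Es F R) : ∃ Q, E2 F R Q := by
  suffices h1 : ∃ Q, Es F Q ∧ ¬ Om R ≤ Q by
    obtain ⟨Q, hQ, h2⟩ := h1
    have h3 : ¬ Om Q ≤ R := fun h3 => h2 (c.om_le_symm hQ h3)
    exact ⟨Q, h R Q hR hQ h3, h Q R hQ hR h2, h3⟩
  by_contra h1
  push Not at h1
  refine c.not_fam (s := fun R => Es F R ∧ ∀ Q, Es F Q → Om R ≤ Q) (fun _ h => h.1)
    (fun θ hθ R hR => ⟨es_map hθ hR.1, fun Q hQ x hx => ?_⟩) (fun Q hQ => ⟨fun R hR => hR.2 Q hQ, ?_⟩) ⟨hR, h1⟩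
  · have h2 := om_map θ⁻¹ hx
    rw [map_map_inv] at h2
    have h3 := (Asm.mem_map_iff' _ _ _).1 (hR.2 _ (es_map (mp_inv_top hθ) hQ) h2)
    rwa [inv_inv, MulAut.apply_inv_self] at h3
  · by_cases h2 : ∀ Q', Es F Q' → Om Q ≤ Q'
    · exact Or.inl ⟨hQ, h2⟩
    push Not at h2
    obtain ⟨Q', hQ', h3⟩ := h2
    have h4 : ¬ Om Q' ≤ Q := fun h4 => h3 (c.om_le_symm hQ' h4)
    exact Or.inr fun R hR => (c.tv_up hT (h Q Q' hQ hQ' h4) hR.1 (c.om_le_symm hR.1 (hR.2 Q hQ))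
      fun h5 => h4 ((c.om_le_symm hR.1 (hR.2 Q' hQ')).trans h5)).2

theorem W2.le (hS : BoxSp) (c : Cx F) (h : W2 F) (e : E2 F P Q) (hR : Es F R) (h1 : R ≠ Q) : Om R ≤ P := by
  by_contra h2
  exact h1 (c.uniq hS e.l (h R P hR e.l.es fun h3 => h2 (c.om_le_symm e.l.es h3)) e.r h2 e.e)

/-- two different edges -/
structure Ap (P Q P' Q' : Subgroup G) : Prop where
  a : Om P' ≤ P
  b : Om P' ≤ Q
  c : Om Q' ≤ P
  d : Om Q' ≤ Q

theorem W2.ap (hS : BoxSp) (c : Cx F) (h : W2 F) {P' Q' : Subgroup G} (e : E2 F P Q) (e' : E2 F P' Q') (h1 : P' ≠ P)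
    (h2 : P' ≠ Q) : Ap P Q P' Q' := by
  have h3 := h.le hS c e e'.l.es h2
  have h4 := h.le hS c (e.symm c) e'.l.es h1
  have h5 := (e'.symm c).e
  exact ⟨h3, h4, h.le hS c e e'.r.es fun h6 => h5 (h6 ▸ h4), h.le hS c (e.symm c) e'.r.es fun h6 => h5 (h6 ▸ h3)⟩

theorem Ap.symm {P' Q' : Subgroup G} (h : Ap P Q P' Q') (c : Cx F) (e' : E2 F P' Q') : Ap P' Q' P Q :=
  ⟨c.om_le_symm e'.l.es h.a, c.om_le_symm e'.r.es h.c, c.om_le_symm e'.l.es h.b, c.om_le_symm e'.r.es h.d⟩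

theorem E2.fin1 (hS : BoxSp) (c : Cx F) (e : E2 F P Q) (h : ∀ R, Es F R → R = P ∨ R = Q) : Nat.card G ≤ 16 := by
  have h1 : P ⊓ Q ≤ Zc G := c.le_center (fun R hR => by rcases h R hR with rfl | rfl; exacts [inf_le_left, inf_le_right])
    fun g => by
      obtain ⟨a, ha, b, hb, y, h1, h2, rfl⟩ := e.l.dec2 c e.r e.e g
      exact ⟨a * b, y, ⟨h1, h2⟩, rfl, fun x hx => by
        rw [mul_assoc, ← om_comm hb hx.2, ← mul_assoc, ← om_comm ha hx.1, mul_assoc]⟩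
  have h2 := c.card_center (K := Cp F P ⊓ Cp F Q) fun R hR => by
    rcases h R hR with rfl | rfl; exacts [inf_le_left, inf_le_right]
  have h3 := h2.le.trans (Subgroup.relIndex_inf_le.trans
    (Nat.mul_le_mul (e.l.sp hS c (by norm_num)).2.1 (e.r.sp hS c (by norm_num)).2.1))
  have h4 := e.l.card_inf e.r e.e
  have h5 := Subgroup.card_le_of_le h1
  omega

theorem E2.fin2 (hS : BoxSp) (c : Cx F) {P' Q' : Subgroup G} (e : E2 F P Q) (e' : E2 F P' Q') (ap : Ap P Q P' Q')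
    (h : ∀ R, Es F R → R = P ∨ R = Q ∨ R = P' ∨ R = Q') : Nat.card G ≤ 256 := by
  have h1 : (P ⊓ Q) ⊓ (P' ⊓ Q') ≤ Zc G := c.le_center (fun R hR x hx => by
      rcases h R hR with rfl | rfl | rfl | rfl; exacts [hx.1.1, hx.1.2, hx.2.1, hx.2.2])
    fun g => by
      obtain ⟨a, ha, b, hb, y, h1, h2, rfl⟩ := e.l.dec2 c e.r e.e g
      obtain ⟨a', ha', b', hb', y', h3, h4, h5⟩ := e'.l.dec2 c e'.r e'.e y
      have h6 : y' = (a' * b')⁻¹ * y := by rw [h5, inv_mul_cancel_left]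
      refine ⟨a * b * (a' * b'), y', ⟨⟨?_, ?_⟩, h3, h4⟩, by rw [h5]; group, fun x hx => ?_⟩
      · rw [h6]
        exact P.mul_mem (P.inv_mem (P.mul_mem (ap.a ha') (ap.c hb'))) h1
      · rw [h6]
        exact Q.mul_mem (Q.inv_mem (Q.mul_mem (ap.b ha') (ap.d hb'))) h2
      · rw [← br_eq_one, br_mul_left c.cl, br_mul_left c.cl, br_mul_left c.cl, br_eq_one.2 (om_comm ha hx.1.1).symm,
          br_eq_one.2 (om_comm hb hx.1.2).symm, br_eq_one.2 (om_comm ha' hx.2.1).symm,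
          br_eq_one.2 (om_comm hb' hx.2.2).symm]
        simp only [mul_one]
  have h2 := c.card_center (K := (Cp F P ⊓ Cp F Q) ⊓ (Cp F P' ⊓ Cp F Q')) fun R hR x hx => by
    rcases h R hR with rfl | rfl | rfl | rfl; exacts [hx.1.1, hx.1.2, hx.2.1, hx.2.2]
  have h3 := h2.le.trans (Subgroup.relIndex_inf_le.trans (Nat.mul_le_mul (Subgroup.relIndex_inf_le.trans
    (Nat.mul_le_mul (e.l.sp hS c (by norm_num)).2.1 (e.r.sp hS c (by norm_num)).2.1)) (Subgroup.relIndex_inf_le.trans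
    (Nat.mul_le_mul (e'.l.sp hS c (by norm_num)).2.1 (e'.r.sp hS c (by norm_num)).2.1))))
  have h4 := Subgroup.card_mul_index ((P ⊓ Q) ⊓ (P' ⊓ Q'))
  have h5 := (Subgroup.card_le_of_le h1).trans h3
  have h6 : ((P ⊓ Q) ⊓ (P' ⊓ Q')).index ≤ 2 * 2 * (2 * 2) := Subgroup.index_inf_le.trans (Nat.mul_le_mul
    (Subgroup.index_inf_le.trans (Nat.mul_le_mul e.l.idx.le e.r.idx.le))
    (Subgroup.index_inf_le.trans (Nat.mul_le_mul e'.l.idx.le e'.r.idx.le)))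
  have h7 := Nat.mul_le_mul h5 h6
  omega

theorem dbl {A B : Subgroup G} (h : A ≤ B) {x : G} (hB : x ∈ B) (hA : x ∉ A) : 2 * Nat.card A ≤ Nat.card B := by
  rw [card_eq_rel h, mul_comm]
  have h1 := rel_ne A B
  have h2 : A.relIndex B ≠ 1 := fun e => hA (Subgroup.relIndex_eq_one.1 e hB)
  exact Nat.mul_le_mul_left _ (by omega)

theorem dbl' {A K : Subgroup G} {x : G} (hA : x ∈ A) (hK : x ∉ K) : 2 * Nat.card ↥(A ⊓ K) ≤ Nat.card A :=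
  dbl inf_le_left hA fun h => hK h.2

theorem E2.exists_ab (e : E2 F P Q) (hS : BoxSp) (c : Cx F) :
    ∃ a ∈ Om P, ∃ b ∈ Om Q, a ∉ Q ∧ b ∉ P ∧ br a b ∉ Cp F P := by
  obtain ⟨a, ha, h1⟩ := SetLike.not_le_iff_exists.1 (e.symm c).e
  obtain ⟨b, hb, h2⟩ := SetLike.not_le_iff_exists.1 e.e
  refine ⟨a, ha, b, hb, h1, h2, fun h3 => ?_⟩
  rw [c.br_symm] at h3
  exact h1 (c.zle e.r.es (e.l.reg b h2 a ha (br_eq_one.1 ((e.l.sp hS c (by norm_num)).1 b a ha h3))))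

theorem Cx.d8 {R₁ : ℕ} (hD : BoxD8 R₁) (hS : BoxSp) (c : Cx F) (hc : Nat.card G = 2 ^ 9) (P Q : Fin 3 → Subgroup G)
    (e : ∀ i, E2 F (P i) (Q i)) (ap : ∀ i j, i ≠ j → Ap (P i) (Q i) (P j) (Q j)) : ∃ y : ℕ → G, Pc16 9 R₁ y := by
  choose a ha b hb h1 h2 h3 using fun i => (e i).exists_ab hS c
  have aP : ∀ i j, a j ∈ P i := fun i j => by
    by_cases h : i = j
    · exact h ▸ (ha i).1
    · exact (ap i j h).a (ha j)
  have bQ : ∀ i j, b j ∈ Q i := fun i j => by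
    by_cases h : i = j
    · exact h ▸ (hb i).1
    · exact (ap i j h).d (hb j)
  have aQ : ∀ i j, i ≠ j → a j ∈ Q i := fun i j h => (ap i j h).b (ha j)
  have bP : ∀ i j, i ≠ j → b j ∈ P i := fun i j h => (ap i j h).c (hb j)
  refine hD G hc a b (fun i => br (a i) (b i)) (fun i => om_sq (ha i)) (fun i => om_sq (hb i))
    (fun i => c.zsq (br_mem c.cl _ _)) (fun i g => zc (br_mem c.cl _ _) g)
    (fun i => by rw [zc (br_mem c.cl _ _), ← mul_eq_br]) (fun i j => om_comm (ha j) (aP j i))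
    (fun i j => om_comm (hb j) (bQ j i)) (fun i j h => om_comm (hb j) (aQ j i h.symm)) ?_
  set H := Subgroup.closure (Set.range a ∪ Set.range b) with hH
  have aH : ∀ i, a i ∈ H := fun i => Subgroup.subset_closure (Or.inl ⟨i, rfl⟩)
  have bH : ∀ i, b i ∈ H := fun i => Subgroup.subset_closure (Or.inr ⟨i, rfl⟩)
  have zH : ∀ i, br (a i) (b i) ∈ H ⊓ Q 0 ⊓ P 0 ⊓ Q 1 ⊓ P 1 ⊓ Q 2 ⊓ P 2 := fun i => by
    have h4 := br_mem c.cl (a i) (b i)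
    exact ⟨⟨⟨⟨⟨⟨H.mul_mem (H.mul_mem (H.mul_mem (aH i) (bH i)) (H.inv_mem (aH i))) (H.inv_mem (bH i)),
      c.zle (e 0).r.es h4⟩, c.zle (e 0).l.es h4⟩, c.zle (e 1).r.es h4⟩, c.zle (e 1).l.es h4⟩, c.zle (e 2).r.es h4⟩,
      c.zle (e 2).l.es h4⟩
  have zC : ∀ i j, i ≠ j → br (a j) (b j) ∈ Cp F (P i) := fun i j h => c.br_cp (e i).l.es (aP i j) (bP i j h)
  have d1 := dbl' (aH 0) (h1 0)
  have d2 := dbl' (A := H ⊓ Q 0) ⟨bH 0, bQ 0 0⟩ (h2 0)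
  have d3 := dbl' (A := H ⊓ Q 0 ⊓ P 0) ⟨⟨aH 1, aQ 0 1 (by decide)⟩, aP 0 1⟩ (h1 1)
  have d4 := dbl' (A := H ⊓ Q 0 ⊓ P 0 ⊓ Q 1) ⟨⟨⟨bH 1, bQ 0 1⟩, bP 0 1 (by decide)⟩, bQ 1 1⟩ (h2 1)
  have d5 := dbl' (A := H ⊓ Q 0 ⊓ P 0 ⊓ Q 1 ⊓ P 1)
    ⟨⟨⟨⟨aH 2, aQ 0 2 (by decide)⟩, aP 0 2⟩, aQ 1 2 (by decide)⟩, aP 1 2⟩ (h1 2)
  have d6 := dbl' (A := H ⊓ Q 0 ⊓ P 0 ⊓ Q 1 ⊓ P 1 ⊓ Q 2)
    ⟨⟨⟨⟨⟨bH 2, bQ 0 2⟩, bP 0 2 (by decide)⟩, bQ 1 2⟩, bP 1 2 (by decide)⟩, bQ 2 2⟩ (h2 2)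
  have d7 := dbl' (zH 0) (h3 0)
  have d8 := dbl' (A := H ⊓ Q 0 ⊓ P 0 ⊓ Q 1 ⊓ P 1 ⊓ Q 2 ⊓ P 2 ⊓ Cp F (P 0)) ⟨zH 1, zC 0 1 (by decide)⟩ (h3 1)
  have d9 := dbl' (A := H ⊓ Q 0 ⊓ P 0 ⊓ Q 1 ⊓ P 1 ⊓ Q 2 ⊓ P 2 ⊓ Cp F (P 0) ⊓ Cp F (P 1))
    ⟨⟨zH 2, zC 0 2 (by decide)⟩, zC 1 2 (by decide)⟩ (h3 2)
  have d0 : 0 < Nat.card ↥(H ⊓ Q 0 ⊓ P 0 ⊓ Q 1 ⊓ P 1 ⊓ Q 2 ⊓ P 2 ⊓ Cp F (P 0) ⊓ Cp F (P 1) ⊓ Cp F (P 2)) := Nat.card_pos
  exact Subgroup.eq_top_of_le_card H (by omega)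

theorem Cx.exists_es (c : Cx F) (h : 1 < Nat.card G) : ∃ P, Es F P := by
  by_contra h1
  push Not at h1
  have h2 : (⊤ : Subgroup G) = ⊥ := c.eq_bot (fun _ _ _ _ => trivial) fun P hP => (h1 P hP).elim
  have h3 := Subgroup.card_top (G := G)
  rw [h2, Subgroup.card_bot] at h3
  omega

/-- **all edges of index two at the order `2 ^ 9`** -/
theorem W2.d8 {R₁ : ℕ} (hD : BoxD8 R₁) (hT : BoxTV) (hS : BoxSp) (c : Cx F) (hc : Nat.card G = 2 ^ 9) (h : W2 F) :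
    ∃ y : ℕ → G, Pc16 9 R₁ y := by
  obtain ⟨P₀, h0⟩ := c.exists_es (by omega)
  obtain ⟨Q₀, e0⟩ := h.edge hT c h0
  obtain ⟨P₁, h1, n1⟩ : ∃ R, Es F R ∧ ¬ (R = P₀ ∨ R = Q₀) := by
    by_contra h1
    have := e0.fin1 hS c fun R hR => by_contra fun h2 => h1 ⟨R, hR, h2⟩
    omega
  obtain ⟨Q₁, e1⟩ := h.edge hT c h1
  push Not at n1
  have a01 := h.ap hS c e0 e1 n1.1 n1.2
  obtain ⟨P₂, h2, n2⟩ : ∃ R, Es F R ∧ ¬ (R = P₀ ∨ R = Q₀ ∨ R = P₁ ∨ R = Q₁) := by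
    by_contra h2
    have := e0.fin2 hS c e1 a01 fun R hR => by_contra fun h3 => h2 ⟨R, hR, h3⟩
    omega
  obtain ⟨Q₂, e2⟩ := h.edge hT c h2
  push Not at n2
  have a02 := h.ap hS c e0 e2 n2.1 n2.2.1
  have a12 := h.ap hS c e1 e2 n2.2.2.1 n2.2.2.2
  refine c.d8 hD hS hc ![P₀, P₁, P₂] ![Q₀, Q₁, Q₂] (fun i => ?_) fun i j hij => ?_
  · fin_cases i
    exacts [e0, e1, e2]
  · fin_cases i <;> fin_cases j
    exacts [(hij rfl).elim, a01, a02, a01.symm c e1, (hij rfl).elim, a12, a02.symm c e2, a12.symm c e2, (hij rfl).elim]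

/-- **groups with a Frattini subgroup of order at most two** -/
theorem boxSq_of (hT : BoxTV) (hS : BoxSp) : BoxSq := by
  intro G _ _ hG F hF z z2 hz hsq
  have hbr : ∀ a b : G, br a b = 1 ∨ br a b = z := fun a b => by
    rcases comm_of_sq z2 hz hsq a b with h | h
    · exact Or.inl (br_eq_one.2 h)
    · right
      unfold br
      rw [h, ← hz]
      group
  have c : Cx F := ⟨hG, fun a b g => by
    show br a b * g = g * br a b
    rcases hbr a b with h | h <;> rw [h]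
    · rw [one_mul, mul_one]
    · exact hz g, hF⟩
  have h : W2 F := fun P _ hP _ _ =>
    let ⟨t, ht⟩ := c.exists_not_mem hP
    c.rg_two hP ht fun x _ => hbr t x
  by_contra h16
  obtain ⟨P, h0⟩ := c.exists_es (by omega)
  obtain ⟨Q, e⟩ := h.edge hT c h0
  refine h16 (e.fin1 hS c fun R hR => by_contra fun h1 => ?_)
  push Not at h1
  obtain ⟨R', e'⟩ := h.edge hT c hR
  have ap := h.ap hS c e e' h1.1 h1.2
  obtain ⟨a, -, b, -, -, -, h2⟩ := e.exists_ab hS c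
  obtain ⟨a', ha', b', hb', -, -, h3⟩ := e'.exists_ab hS c
  have h4 : ∀ {x y : G} {K : Subgroup G}, br x y ∉ K → br x y = z := fun {x y K} h4 =>
    (hbr x y).resolve_left fun h5 => h4 (h5 ▸ K.one_mem)
  have h5 := c.br_cp h0 (ap.a ha') (ap.c hb')
  rw [h4 h3, ← h4 h2] at h5
  exact h2 h5

end Cfsg.Agent.FS.N.C2
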