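import Cfsg.Agent.FS.N.C2.Defs

/-!
# S5288, class two: presentations on three central, three `a` and three `b` generators (helper85, project FS)
-/

set_option autoImplicit false

namespace Cfsg.Agent.FS.N.C2.Mod

open Cfsg.Agent.FS.Pc

variable {G : Type} [Group G]

/-- the nine generators -/
def nine (z a b : ℕ → G) (i : ℕ) : G := if i < 3 then z i else if i < 6 then a (i - 3) else b (i - 6)

/-- the packed relations `R` are those of the structure constants `c` -/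
def RelOK (c : ℕ → ℕ → ℕ) (R : ℕ) : Prop :=
  ∀ k, k < 9 → get 16 R (tri k k) = 0 ∧ ∀ j, j < k →
    get 16 R (tri k j) = 2 ^ j + if 3 ≤ j ∧ j < 6 ∧ 6 ≤ k then c (j - 3) (k - 6) else 0

theorem el_add (y : ℕ → G) {k j e : ℕ} (hj : j < k) (he : e < 2 ^ j) : el y k (2 ^ j + e) = y j * el y j e := by
  have h1 : 2 ^ j + e < 2 ^ (j + 1) := by rw [Nat.pow_succ]; omega
  rw [el_of_lt y h1 hj, two_pow_add_eq_xor he, el_top y he]

theorem nine_z (z a b : ℕ → G) {i : ℕ} (h : i < 3) : nine z a b i = z i := if_pos h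

theorem nine_a (z a b : ℕ → G) {i : ℕ} (h : i < 3) : nine z a b (i + 3) = a i := by
  unfold nine
  rw [if_neg (by omega), if_pos (by omega), Nat.add_sub_cancel]

theorem nine_b (z a b : ℕ → G) (i : ℕ) : nine z a b (i + 6) = b i := by
  unfold nine
  rw [if_neg (by omega), if_neg (by omega), Nat.add_sub_cancel]

theorem isPc_nine {z a b : ℕ → G} {c : ℕ → ℕ → ℕ} {R : ℕ} (hR : RelOK c R) (hc : ∀ i < 3, ∀ j < 3, c i j < 8)
    (hz : Tails z 3) (ha : ∀ i < 3, a i * a i = 1) (hb : ∀ i < 3, b i * b i = 1)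
    (haa : ∀ i < 3, ∀ j < 3, a i * a j = a j * a i) (hbb : ∀ i < 3, ∀ j < 3, b i * b j = b j * b i)
    (hab : ∀ i < 3, ∀ j < 3, a i * b j = b j * (a i * el z 3 (c i j))) : IsPc (nine z a b) 0 9 16 R := by
  have hcs : ∀ k, k < 9 → k < 3 ∨ (∃ i < 3, k = i + 3) ∨ ∃ i < 3, k = i + 6 := fun k hk => by
    by_cases h1 : k < 3
    · exact Or.inl h1
    by_cases h2 : k < 6
    · exact Or.inr (Or.inl ⟨k - 3, by omega, by omega⟩)
    · exact Or.inr (Or.inr ⟨k - 6, by omega, by omega⟩)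
  refine ⟨fun i hi => absurd hi (Nat.not_lt_zero _), fun i hi => absurd hi (Nat.not_lt_zero _), fun k hk => ?_,
    fun k hk j hj => ?_⟩
  · rw [Nat.zero_add, (hR k hk).1, el_nil]
    rcases hcs k hk with h | ⟨i, hi, rfl⟩ | ⟨i, hi, rfl⟩
    · rw [nine_z z a b h]
      exact hz.tsq k h
    · rw [nine_a z a b hi]
      exact ha i hi
    · rw [nine_b]
      exact hb i hi
  · rw [Nat.zero_add, Nat.zero_add, (hR k hk).2 j hj]
    by_cases h : 3 ≤ j ∧ j < 6 ∧ 6 ≤ k
    · obtain ⟨i, rfl⟩ : ∃ i, j = i + 3 := ⟨j - 3, by omega⟩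
      obtain ⟨m, rfl⟩ : ∃ m, k = m + 6 := ⟨k - 6, by omega⟩
      have hi : i < 3 := by omega
      have hm : m < 3 := by omega
      have h8 : c i m < 2 ^ 3 := hc i hi m hm
      rw [if_pos h, Nat.add_sub_cancel, Nat.add_sub_cancel,
        el_add _ hj (h8.trans_le (Nat.pow_le_pow_right (by norm_num) (by omega))),
        el_of_lt _ h8 (by omega : 3 ≤ i + 3), nine_a z a b hi, nine_b,
        el_congr_g (g := nine z a b) (g' := z) _ 3 fun k hk => nine_z z a b hk]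
      exact hab i hi m hm
    · rw [if_neg h, el_add _ hj (Nat.two_pow_pos j), el_nil, mul_one]
      rcases hcs j (by omega) with h1 | ⟨i, hi, rfl⟩ | ⟨i, hi, rfl⟩
      · rw [nine_z z a b h1]
        exact hz.tc j h1 _
      · obtain ⟨m, rfl⟩ : ∃ m, k = m + 3 := ⟨k - 3, by omega⟩
        rw [nine_a z a b hi, nine_a z a b (by omega)]
        exact haa i hi m (by omega)
      · obtain ⟨m, rfl⟩ : ∃ m, k = m + 6 := ⟨k - 6, by omega⟩
        rw [nine_b, nine_b]
        exact hbb i hi m (by omega)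

/-- the normal forms of a finite group form a subgroup -/
theorem exists_nf [Finite G] {y : ℕ → G} {n R : ℕ} (h : IsPc y 0 n 16 R) (hn : n ≤ 16) :
    ∃ H : Subgroup G, (∀ i < n, y i ∈ H) ∧ ∀ g ∈ H, ∃ a, a < 2 ^ n ∧ g = el y n a := by
  have hmul : ∀ g g' : G, (∃ a, a < 2 ^ n ∧ g = el y n a) → (∃ a, a < 2 ^ n ∧ g' = el y n a) →
      ∃ a, a < 2 ^ n ∧ g * g' = el y n a := by
    rintro _ _ ⟨a, ha, rfl⟩ ⟨b, hb, rfl⟩
    have h1 := h.mul (x := a) (y := b) (by omega) (by rwa [Nat.zero_add]) (by rwa [Nat.zero_add])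
    rw [Nat.zero_add] at h1
    exact ⟨_, h1.1, h1.2⟩
  have hone : ∃ a, a < 2 ^ n ∧ (1 : G) = el y n a := ⟨0, Nat.two_pow_pos n, (el_nil y n).symm⟩
  have hpow : ∀ g : G, (∃ a, a < 2 ^ n ∧ g = el y n a) → ∀ k : ℕ, ∃ a, a < 2 ^ n ∧ g ^ k = el y n a := by
    intro g hg k
    induction k with
    | zero => rwa [pow_zero]
    | succ k ih =>
      rw [pow_succ]
      exact hmul _ _ ih hg
  refine ⟨{ carrier := {g | ∃ a, a < 2 ^ n ∧ g = el y n a}, mul_mem' := fun {g g'} => hmul g g', one_mem' := hone,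
            inv_mem' := fun {g} hg => ?_ }, fun i hi => ?_, fun g hg => hg⟩
  · have h1 : g⁻¹ = g ^ (orderOf g - 1) := by
      have h2 := orderOf_pos g
      rw [eq_comm, ← mul_eq_one_iff_eq_inv, ← pow_succ, Nat.sub_add_cancel h2, pow_orderOf_eq_one]
    rw [h1]
    exact hpow g hg _
  · refine ⟨2 ^ i + 0, ?_, ?_⟩
    · rw [Nat.add_zero]
      exact Nat.pow_lt_pow_right (by norm_num) hi
    · rw [el_add y hi (Nat.two_pow_pos i), el_nil, mul_one]

theorem pc16_of [Finite G] {y : ℕ → G} {n R : ℕ} (hG : Nat.card G = 2 ^ n) (h : IsPc y 0 n 16 R) (hn : n ≤ 16)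
    (hgen : ∀ H : Subgroup G, (∀ i < n, y i ∈ H) → H = ⊤) : Pc16 n R y := by
  obtain ⟨H, h1, h2⟩ := exists_nf h hn
  refine ⟨hG, h, fun g => h2 g ?_⟩
  rw [hgen H h1]
  exact Subgroup.mem_top g

end Cfsg.Agent.FS.N.C2.Mod
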