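import Cfsg.Agent.FS.N.C2.Defs
import Cfsg.Agent.FS.Th.Chain

/-!
# S5288, class two: the transvection lemma (helper95, project FS)
-/

set_option autoImplicit false

namespace Cfsg.Agent.FS.N.C2.Mod

open Cfsg.Agent.FS.Th Subgroup

variable {V : Type} [CommGroup V] {s t u p : MulAut V} {c d z : V} {Γ : Subgroup (MulAut V)}

theorem cm_conj (a t : MulAut V) (x : V) : cm (a * t * a⁻¹) x = a (cm t (a⁻¹ x)) := by
  rw [cm_apply, cm_apply, map_mul, MulAut.apply_inv_self, MulAut.mul_apply, MulAut.mul_apply]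

theorem cm_ext (h : ∀ x, cm s x = cm t x) : s = t := MulEquiv.ext fun x => mul_left_cancel (h x)

/-- the elements killed by all the words of a given length -/
def kc (s u : MulAut V) : ℕ → Subgroup V
  | 0 => ⊥
  | i + 1 => (kc s u i).comap (cm s) ⊓ (kc s u i).comap (cm u)

theorem kc_realised : True := by have := @kc.eq_def; trivial

theorem kc_mono (s u : MulAut V) (i : ℕ) : kc s u i ≤ kc s u (i + 1) := by
  induction i with
  | zero => exact bot_le
  | succ i ih => exact inf_le_inf (comap_mono ih) (comap_mono ih)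

theorem eq_pow {G : Type*} [Group G] {a : G} (h : Odd (orderOf a)) : ∃ k, a = (a * a) ^ k := by
  obtain ⟨k, hk⟩ := h
  exact ⟨k + 1, by rw [← pow_two, ← pow_mul, show 2 * (k + 1) = orderOf a + 1 by omega, pow_succ, pow_orderOf_eq_one,
    one_mul]⟩

theorem comm_of_sq {G : Type*} [Group G] {a b : G} (h : Odd (orderOf a)) (h2 : Commute (a * a) b) : Commute a b := by
  obtain ⟨k, hk⟩ := eq_pow h
  rw [hk]
  exact h2.pow_left k

/-- a transvection with centre `c` -/
def Tv (t : MulAut V) (c : V) : Prop := ∀ x, cm t x = 1 ∨ cm t x = c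

theorem Tv.conj (h : Tv t c) (a : MulAut V) : Tv (a * t * a⁻¹) (a c) := fun x => by
  rw [cm_conj]
  exact (h _).imp (fun e => by rw [e, map_one]) fun e => by rw [e]

theorem Tv.cen (h : Tv t c) : cm t c = 1 := (h c).elim id fun e => by
  rw [e, ← t.map_eq_one_iff]
  exact mul_eq_left.1 e

theorem Tv.kill (h : Tv t c) (hs : cm s c = 1) (x : V) : cm s (cm t x) = 1 :=
  (h x).elim (fun e => by rw [e, map_one]) fun e => by rw [e, hs]

variable (hV : ∀ x : V, x * x = 1)

include hV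

theorem ap (t : MulAut V) (x : V) : t x = x * cm t x := by rw [cm_apply, ← mul_assoc, hV, one_mul]

theorem cm_mul (s t : MulAut V) (x : V) : cm (s * t) x = cm s x * cm t x * cm s (cm t x) := by
  rw [cm_apply, MulAut.mul_apply, ap hV t x, map_mul, ap hV s (cm t x), ← mul_assoc, ← mul_assoc, cm_apply s x]

theorem comm_of (h1 : ∀ x, cm s (cm t x) = 1) (h2 : ∀ x, cm t (cm s x) = 1) : Commute s t :=
  cm_ext fun x => by rw [cm_mul hV, cm_mul hV, h1, h2, mul_comm (cm s x)]

theorem sq_of (h : ∀ x, cm s (cm s x) = 1) : s * s = 1 := cm_ext fun x => by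
  rw [cm_mul hV, h, hV, mul_one, cm_apply, MulAut.one_apply, hV]

variable [Finite V]

/-- **the test for a `2`-group** -/
theorem two (hs : ∀ x, cm s (cm s x) = 1) (hu : ∀ x, cm u (cm u x) = 1)
    (h : ∀ x, cm s (cm u (cm s (cm u x))) = 1) : IsPGroup 2 (closure ({s, u} : Set (MulAut V))) := by
  have k : ∀ t, (∀ i, ∀ x ∈ kc s u (i + 1), cm t x ∈ kc s u i) → t ∈ chainStab (kc s u) 5 := fun t ht =>
    mem_chainStab (fun i x hx => by
      rw [ap hV]
      rcases i with _ | i
      · rw [mem_bot.1 hx, map_one, mul_one]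
        exact one_mem _
      · exact mul_mem hx (kc_mono s u i (ht i x hx))) fun i _ x hx => by
      rw [ap hV, mul_comm x, mul_inv_cancel_right]
      exact ht i x hx
  refine (isPGroup_chainStab (K := kc s u) (m := 5) (fun x => ⟨1, by rw [pow_one, pow_two, hV]⟩)
    ((eq_top_iff' _).2 fun x => by simp [kc, hs, hu, h]) fun M hM => (sup_bot_eq M).symm.trans hM).to_le
    ((closure_le _).2 ?_)
  rintro _ (rfl | rfl)
  exacts [k _ fun _ _ hx => hx.1, k _ fun _ _ hx => hx.2]

theorem kill (hQ : Quad Γ) (hs : s ∈ Γ) (ht : t ∈ Γ) (h1 : Tv s c) (h2 : Tv t d) (h : cm s d = 1) (x : V) :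
    cm t (cm s x) = 1 :=
  hQ t ht s hs (two hV (h2.kill h2.cen) (h1.kill h1.cen) fun x => by rw [h2.kill h, map_one]) x

theorem eq_of (hQ : Quad Γ) (hp : p ∈ Γ) (hs : s ∈ Γ) (ht : t ∈ Γ) (h0 : Tv p z) (h1 : Tv s c) (h2 : Tv t d)
    (pc : cm p c = z) (pd : cm p d = z) (sz : cm s z = c) (tz : cm t z = d) (h : cm s d = 1) : s = t := by
  have e1 := kill hV hQ hs ht h1 h2 h
  have e2 : cm t c = 1 := sz ▸ e1 z
  have e3 : ∀ x, cm (p * (s * t) * p⁻¹) x = p (cm s (p x) * cm t (p x)) := fun x => by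
    rw [cm_conj, cm_mul hV, h2.kill h, mul_one, inv_eq_of_mul_eq_one_left (sq_of hV (h0.kill h0.cen))]
  have e4 : cm (p * (s * t) * p⁻¹) c = c * d := by
    rw [e3, ap hV p c, pc, map_mul (cm s), map_mul (cm t), h1.cen, sz, e2, tz, one_mul, one_mul, map_mul, ap hV p c,
      ap hV p d, pc, pd, mul_mul_mul_comm, hV, mul_one]
  have hr := mul_mem (mul_mem hp (mul_mem hs ht)) (inv_mem hp)
  have e5 := two hV (u := p * (s * t) * p⁻¹) (h1.kill h1.cen) (fun x => by
    rw [cm_conj, cm_conj, MulAut.inv_apply_self, cm_mul hV s t (p⁻¹ x), h2.kill h, mul_one, cm_mul hV]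
    simp only [map_mul, h1.kill h1.cen, h2.kill h2.cen, h2.kill h, e1, mul_one, map_one]) fun x =>
    (h1 (cm (p * (s * t) * p⁻¹) x)).elim (fun e => by rw [e, map_one, map_one]) fun e => by rw [e, e4, map_mul, h1.cen, h, mul_one]
  have e6 := hQ _ hr s hs (Set.pair_comm s _ ▸ e5) z
  rw [sz, e4] at e6
  obtain rfl : c = d := mul_right_cancel (e6.trans (hV d).symm)
  refine cm_ext fun x => ?_
  obtain ⟨y, rfl⟩ := p.surjective x
  have e7 := hQ s hs _ hr e5 y
  have e8 : cm s (p c) = c := by rw [ap hV, pc, map_mul, h, sz, one_mul]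
  rw [e3] at e7
  rcases h1 (p y) with a | a <;> rcases h2 (p y) with b | b <;> rw [a, b] at e7 ⊢
  · rw [one_mul, e8] at e7
    exact e7.symm
  · rwa [mul_one, e8] at e7

omit hV [Finite V] in
/-- **the transvection lemma** -/
theorem boxTV : BoxTV := by
  intro V _ _ hV Γ hQ p hp β hβ α hα z hz ho hpβ hoα hαp
  have h0 : Tv p z := fun x => (hz x).imp (fun e => by rw [cm_apply, e, hV]) fun e => by
    rw [cm_apply, e, ← mul_assoc, hV, one_mul]
  have pp := sq_of hV (h0.kill h0.cen)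
  have pi : p⁻¹ = p := inv_eq_of_mul_eq_one_left pp
  have h1 := h0.conj β
  have hs := mul_mem (mul_mem hβ hp) (inv_mem hβ)
  have h2 : β * p * β⁻¹ * p = β * β := by
    rw [← hpβ, pi, mul_assoc, mul_assoc, mul_assoc, mul_assoc, pp, mul_one, ← mul_assoc p, pp, one_mul]
  generalize β * p * β⁻¹ = s at h1 hs h2
  generalize β z = c at h1
  suffices h : Commute α s from (comm_of_sq ho (h2 ▸ (h.mul_right hαp).symm)).symm
  by_cases h3 : cm p c = 1 ∨ cm s z = 1
  · have h4 : Commute s p := h3.elim (fun e => comm_of hV (kill hV hQ hp hs h0 h1 e) (h1.kill e))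
      fun e => comm_of hV (h0.kill e) (kill hV hQ hs hp h1 h0 e)
    have h5 := comm_of_sq ho (h2 ▸ h4.mul_left (Commute.refl p))
    rw [← h5.eq, mul_inv_cancel_right, eq_inv_iff_mul_eq_one, ← h2, ← eq_inv_iff_mul_eq_one, pi] at hpβ
    exact hpβ ▸ hαp
  have pc := (h0 c).resolve_left fun e => h3 (Or.inl e)
  have sz := (h1 z).resolve_left fun e => h3 (Or.inr e)
  have h4 : ∀ x, cm p (α x) = α (cm p x) := fun x => by
    rw [← mul_inv_eq_iff_eq_mul.2 hαp, cm_conj, MulAut.inv_apply_self, mul_inv_eq_iff_eq_mul.2 hαp]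
  have h5 : α z = z := (h0 (α c)).elim (fun e => by
    rw [h4, pc, α.map_eq_one_iff] at e
    rw [e, map_one]) fun e => by rwa [h4, pc] at e
  have ht := mul_mem (mul_mem hα hs) (inv_mem hα)
  have pd : cm p (α c) = z := by rw [h4, pc, h5]
  have tz : cm (α * s * α⁻¹) z = α c := by rw [cm_conj, ← h5, MulAut.inv_apply_self, sz]
  have pz : p z = z := by rw [ap hV, h0.cen, mul_one]
  rcases h1 (α c) with e | e
  · exact (mul_inv_eq_iff_eq_mul.1 (eq_of hV hQ hp hs ht h0 h1 (h1.conj α) pc pd sz tz e).symm :)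
  have h6 := eq_of hV hQ hp (mul_mem (mul_mem hp hs) (inv_mem hp)) ht h0 (h1.conj p) (h1.conj α)
    (by rw [ap hV p c, map_mul, pc, h0.cen, mul_one]) pd (by rw [cm_conj, pi, pz, sz]) tz
    (by rw [cm_conj, pi, ap hV p (α c), pd, map_mul, e, sz, hV, map_one])
  refine comm_of_sq hoα (mul_inv_eq_iff_eq_mul.1 ?_)
  calc _ = α * (α * s * α⁻¹) * α⁻¹ := by group
    _ = α * p * s * (α * p)⁻¹ := by rw [← h6]; group
    _ = p * (α * s * α⁻¹) * p⁻¹ := by rw [hαp]; group
    _ = p * p * s * (p * p)⁻¹ := by rw [← h6]; group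
    _ = s := by rw [pp, one_mul, inv_one, mul_one]

end Cfsg.Agent.FS.N.C2.Mod
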