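import Cfsg.Agent.FS.N.C2.One

/-!
# S5288, class two: an edge of index four or eight, and the box (helper53, project FS)
-/

set_option autoImplicit false

namespace Cfsg.Agent.FS.N.C2

open Cfsg Cfsg.FusionSystem Cfsg.Agent.H752 Cfsg.Agent.FS.Th

variable {G : Type} [Group G] [Finite G] {F : Sys G} {P Q R R' : Subgroup G}

theorem Rg.or_z {q : ℕ} (hP : Rg F q P) (c : Cx F) (hQ : Rg F q Q) (he : ¬ Om Q ≤ P) {a b : G} (ha : a ∈ Om P)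
    (hb : b ∈ Om Q) (h : a * b = b * a) : a ∈ Zc G ∨ b ∈ Zc G := by
  by_cases h1 : b ∈ P
  · exact Or.inr (hQ.z_of (fun h2 => he (c.om_le_symm hP.es h2)) hb h1)
  · exact Or.inl (hP.reg b h1 a ha h.symm)

theorem Cx.ut {R₂ : ℕ} (hU : BoxUT R₂) (c : Cx F) (hc : Nat.card G = 2 ^ 9) (hP : Rg F 8 P) (hQ : Rg F 8 Q)
    (he : ¬ Om Q ≤ P) (hZ : Nat.card (Zc G) = 8) : ∃ y : ℕ → G, Pc16 9 R₂ y :=
  hU G hc (Om P) (Om Q) (Zc G) (fun _ => om_sq) (fun _ => om_sq) (fun _ => zc) (c.zom (c.zle hP.es))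
    (c.zom (c.zle hQ.es)) hZ (by rw [card_eq_rel (c.zom (c.zle hP.es)), hZ, hP.rel])
    (by rw [card_eq_rel (c.zom (c.zle hQ.es)), hZ, hQ.rel]) (fun a _ b _ => br_mem c.cl a b)
    fun _ ha _ hb h => hP.or_z c hQ he ha hb h

theorem Cx.closed_us (c : Cx F) {s : Subgroup G → Prop}
    (h2 : ∀ θ : MulAut G, Mp F ⊤ θ → ∀ R, s R → s (R.map θ.toMonoidHom))
    (h3 : ∀ Q, Es F Q → s Q ∨ ∀ R, s R → Up F R ≤ Cp F Q) {f : G → G} (hf : Mp F P f) {x : G} (hx : x ∈ P)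
    (hW : x ∈ Us F s) : f x ∈ Us F s := by
  refine c.closed (fun θ hθ w hw => us_map hθ (h2 θ hθ) hw) (fun Q hQ g hg y hy => ?_) hf hx hW
  rcases h3 Q hQ with h4 | h4
  · have h5 := le_us h4 (up_mem hg hy)
    refine ⟨fun h6 => ?_, fun h6 => ?_⟩
    · rw [← mul_inv_cancel_left y (g y)]
      exact Subgroup.mul_mem _ h6 h5
    · exact (Subgroup.inv_mem_iff _).1 ((Subgroup.mul_mem_cancel_right _ h6).1 h5)
  · refine ⟨fun h6 => by rw [(us_le h4 h6).2 g hg]; exact h6, fun h6 => ?_⟩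
    rwa [hg.mp.inj (hg.mem y hy) hy ((us_le h4 h6).2 g hg)] at h6

theorem Rg.rel_cp (hS : BoxSp) {q : ℕ} (h : Rg F q P) (c : Cx F) (hq : q ≤ 4) :
    Nat.card (Zc G) = Nat.card ↥(Cp F P ⊓ Zc G) * q := by
  obtain ⟨s1, s2, -⟩ := h.sp hS c hq
  obtain ⟨t, ht⟩ := c.exists_not_mem h.es
  have h1 : Cp F P ⊓ Wt c P t = ⊥ := (Subgroup.eq_bot_iff_forall _).2 (by
    rintro _ ⟨h1, x, hx, rfl⟩
    exact s1 t x hx h1)
  have h2 := rel_le_right (Cp F P) (wt_le c P t)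
  rw [← Subgroup.inf_relIndex_right (Cp F P) (Wt c P t), h1, Subgroup.relIndex_bot_left, h.card_wt c ht] at h2
  rw [card_eq_rel (inf_le_right : Cp F P ⊓ Zc G ≤ Zc G), Subgroup.inf_relIndex_right, le_antisymm s2 h2]

theorem Rg.exists_br {q : ℕ} (hP : Rg F q P) (c : Cx F) (hQ : Rg F q Q) (he : ¬ Om Q ≤ P) (h : ¬ P ⊓ Q ≤ Zc G) :
    ∃ x ∈ P ⊓ Q, ∃ y ∈ P ⊓ Q, br x y ≠ 1 := by
  by_contra h1
  push Not at h1
  refine h fun x hx => Subgroup.mem_center_iff.2 fun g => ?_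
  obtain ⟨a, ha, b, hb, y, h2, h3, rfl⟩ := hP.dec2 c hQ he g
  rw [← br_eq_one, br_mul_left c.cl, br_mul_left c.cl, br_eq_one.2 (om_comm ha hx.1).symm,
    br_eq_one.2 (om_comm hb hx.2).symm, h1 y ⟨h2, h3⟩ x hx, mul_one, mul_one]

/-- the centre has order `32` -/
theorem Rg.not_le (hS : BoxSp) (hP : Rg F 4 P) (c : Cx F) (hc : Nat.card G = 2 ^ 9) (hQ : Rg F 4 Q) (he : ¬ Om Q ≤ P) :
    ¬ P ⊓ Q ≤ Zc G := by
  intro h
  have he' : ¬ Om P ≤ Q := fun h2 => he (c.om_le_symm hP.es h2)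
  have key : ∀ {P Q : Subgroup G}, Rg F 4 P → Rg F 4 Q → ¬ Om Q ≤ P → P ⊓ Q ≤ Zc G → ∀ R, Es F R → ∀ x ∈ Om R,
      x ∉ Zc G → x ∈ Om P → R = P := by
    intro P Q hP hQ he h R hR x hx hxZ hxP
    have h1 : R ≤ P := fun t ht => hP.mem hxP hxZ (om_comm hx ht)
    refine le_antisymm h1 fun p hp => c.mem_of_cent hR fun u hu => ?_
    obtain ⟨a, ha, b, hb, y, h2, h3, rfl⟩ := hP.dec2 c hQ he p
    have h4 : b ∈ P := (P.mul_mem_cancel_left ha.1).1 ((P.mul_mem_cancel_right h2).1 hp)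
    have hz := c.zom (c.zle hP.es)
    exact (om_comm ((Om P).mul_mem ((Om P).mul_mem ha (hz (h ⟨h4, hb.1⟩))) (hz (h ⟨h2, h3⟩))) (h1 hu.1)).symm
  have h1 : ∀ R, Es F R → R = P ∨ R = Q := fun R hR => by
    obtain ⟨x, hx, hxZ⟩ := c.exists_om hR
    obtain ⟨a, ha, b, hb, y, h2, h3, h4⟩ := hP.dec2 c hQ he x
    have hy := h ⟨h2, h3⟩
    have h5 : a * b = b * a := by
      have h6 := om_sq hx
      have e : a * b * y * (a * b * y) = a * b * (a * b) * (y * y) := by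
        rw [mul_assoc (a * b) y, ← mul_assoc y, ← zc hy (a * b)]
        simp only [mul_assoc]
      rw [h4, e, c.zsq hy, mul_one] at h6
      rw [← inv_eq_of_mul_eq_one_right h6, mul_inv_rev, om_inv ha, om_inv hb]
    rcases hP.or_z c hQ he ha hb h5 with h6 | h6
    · refine Or.inr (key hQ hP he' (by rwa [inf_comm]) R hR x hx hxZ ?_)
      have hz := c.zom (c.zle hQ.es)
      exact h4 ▸ (Om Q).mul_mem ((Om Q).mul_mem (hz h6) hb) (hz hy)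
    · refine Or.inl (key hP hQ he h R hR x hx hxZ ?_)
      have hz := c.zom (c.zle hP.es)
      exact h4 ▸ (Om P).mul_mem ((Om P).mul_mem ha (hz h6)) (hz hy)
  have h2 := c.card_center (K := Cp F P ⊓ Cp F Q) fun R hR => by
    rcases h1 R hR with rfl | rfl; exacts [inf_le_left, inf_le_right]
  have h3 := h2.le.trans (Subgroup.relIndex_inf_le.trans
    (Nat.mul_le_mul (hP.sp hS c le_rfl).2.1 (hQ.sp hS c le_rfl).2.1))
  have h4 := hP.card_inf hQ he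
  have h5 := Subgroup.card_le_of_le h
  omega

/-- the centre has order `8` -/
theorem Rg.exists_y (hS : BoxSp) (hP : Rg F 4 P) (c : Cx F) (hc : Nat.card G = 2 ^ 9) (hQ : Rg F 4 Q)
    (he : ¬ Om Q ≤ P) : Nat.card (Zc G) = 8 ∧ ∃ y ∈ Zc G, y ≠ 1 ∧ y ∈ Cp F P ∧ y ∈ Cp F Q ∧
      ∀ z ∈ Zc G, z ∈ Cp F P → z = 1 ∨ z = y := by
  obtain ⟨x, hx, x', hx', h1⟩ := hP.exists_br c hQ he (hP.not_le hS c hc hQ he)
  have h2 := c.br_cp hP.es hx.1 hx'.1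
  have h3 := br_mem c.cl x x'
  have d1 := dbl (A := ⊥) (B := Cp F P ⊓ Zc G) bot_le ⟨h2, h3⟩ h1
  have d2 := dbl (A := Zc G) (B := (P ⊓ Q) ⊓ (brR c.cl x).ker)
    (le_inf (le_inf (c.zle hP.es) (c.zle hQ.es)) fun z hz => br_zr hz x) ⟨hx, br_eq_one.2 rfl⟩ fun h => h1 (br_zl h x')
  have d3 := dbl' (K := (brR c.cl x).ker) hx' h1
  have h4 := hP.card_inf hQ he
  have h5 := hP.rel_cp hS c le_rfl
  rw [Subgroup.card_bot] at d1
  refine ⟨by omega, _, h3, h1, h2, c.br_cp hQ.es hx.2 hx'.2, fun z hz h6 => ?_⟩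
  obtain ⟨v, -, hv⟩ := two_cases (U := Cp F P ⊓ Zc G) (by omega)
  rw [(hv _ ⟨h2, h3⟩).resolve_left h1]
  exact hv z ⟨h6, hz⟩

theorem Cx.edge_idx (c : Cx F) (hc : Nat.card G = 2 ^ 9) (hP : Es F P) (hQ : Es F Q) (h : ¬ Om P ≤ Q) :
    P.index = Q.index := by
  rcases c.edge hc.le hP hQ h with ⟨h1, h2⟩ | ⟨h1, h2⟩ | ⟨h1, h2, -⟩ <;> exact h1.idx.trans h2.idx.symm

theorem Rg.edge_four (hP : Rg F 4 P) (c : Cx F) (hc : Nat.card G = 2 ^ 9) (hR : Es F R) (h : ¬ Om R ≤ P) :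
    Rg F 4 R := by
  have h0 := hP.idx
  rcases c.edge hc.le hR hP.es h with ⟨-, h2⟩ | ⟨h1, -⟩ | ⟨-, h2, -⟩
  · have := h2.idx; omega
  · exact h1
  · have := h2.idx; omega

/-- **an edge of index four at the order `2 ^ 9`** -/
theorem Rg.dec4 (hT : BoxTV) (hS : BoxSp) (hP : Rg F 4 P) (c : Cx F) (hc : Nat.card G = 2 ^ 9) (hQ : Rg F 4 Q)
    (he : ¬ Om Q ≤ P) : Dec F := by
  obtain ⟨hZ, y, yZ, y1, yP, yQ, hy⟩ := hP.exists_y hS c hc hQ he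
  have he' : ¬ Om P ≤ Q := fun h2 => he (c.om_le_symm hP.es h2)
  obtain ⟨-, y', -, -, -, -, hy'⟩ := hQ.exists_y hS c hc hP he'
  -- the two kinds of essential subgroups
  have hA : ∀ R, Es F R → (Om R ≤ P ∧ Om R ≤ Q ∧ Rg F 2 R ∧ ∀ t, ∀ x ∈ Om R, br t x = 1 ∨ br t x = y) ∨
      (Rg F 4 R ∧ y ∈ Cp F R ∧ ∃ R', Rg F 4 R' ∧ ¬ Om R ≤ R') := fun R hR => by
    by_cases h1 : Om R ≤ P
    · by_cases h2 : Om R ≤ Q
      · have h3 : ∀ t, ∀ x ∈ Om R, br t x = 1 ∨ br t x = y := fun t x hx => by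
          obtain ⟨a, ha, b, hb, w, h3, -, rfl⟩ := hP.dec2 c hQ he t
          rw [br_mul_left c.cl, br_mul_left c.cl, br_eq_one.2 (om_comm ha (h1 hx)).symm,
            br_eq_one.2 (om_comm hb (h2 hx)).symm, one_mul, one_mul]
          exact hy _ (br_mem c.cl _ _) (c.br_cp hP.es h3 (h1 hx))
        obtain ⟨t, ht⟩ := c.exists_not_mem hR
        exact Or.inl ⟨h1, h2, c.rg_two hR ht (h3 t), h3⟩
      · have h3 := hQ.edge_four c hc hR h2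
        obtain ⟨-, u, uZ, u1, uQ, uR, -⟩ := hQ.exists_y hS c hc h3 h2
        refine Or.inr ⟨h3, ?_, Q, hQ, h2⟩
        rwa [(hy' y yZ yQ).resolve_left y1, ← (hy' u uZ uQ).resolve_left u1]
    · have h3 := hP.edge_four c hc hR h1
      obtain ⟨-, u, uZ, u1, uP, uR, -⟩ := hP.exists_y hS c hc h3 h1
      exact Or.inr ⟨h3, (hy u uZ uP).resolve_left u1 ▸ uR, P, hP, h1⟩
  let s2 : Subgroup G → Prop := fun R => Es F R ∧ R.index = 2
  let s4 : Subgroup G → Prop := fun R => Es F R ∧ R.index = 4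
  have t2 : ∀ θ : MulAut G, Mp F ⊤ θ → ∀ R, s2 R → s2 (R.map θ.toMonoidHom) := fun θ hθ R hR =>
    ⟨es_map hθ hR.1, (index_map' θ R).trans hR.2⟩
  have t4 : ∀ θ : MulAut G, Mp F ⊤ θ → ∀ R, s4 R → s4 (R.map θ.toMonoidHom) := fun θ hθ R hR =>
    ⟨es_map hθ hR.1, (index_map' θ R).trans hR.2⟩
  have h24 : ∀ R, Es F R → s2 R ∨ s4 R := fun R hR =>
    (hA R hR).elim (fun h => Or.inl ⟨hR, h.2.2.1.idx⟩) fun h => Or.inr ⟨hR, h.1.idx⟩
  have a2 : ∀ R, s2 R → Om R ≤ P ∧ Om R ≤ Q ∧ Rg F 2 R ∧ ∀ t, ∀ x ∈ Om R, br t x = 1 ∨ br t x = y := fun R hR =>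
    (hA R hR.1).resolve_right fun h => by have := h.1.idx; have := hR.2; omega
  have a4 : ∀ R, s4 R → Rg F 4 R ∧ y ∈ Cp F R ∧ ∃ R', Rg F 4 R' ∧ ¬ Om R ≤ R' := fun R hR =>
    (hA R hR.1).resolve_left fun h => by have := h.2.2.1.idx; have := hR.2; omega
  have hO : ∀ R R', s2 R → s4 R' → Om R ≤ R' := fun R R' h h' => by
    by_contra h1
    have := c.edge_idx hc h.1 h'.1 h1
    have := h.2
    have := h'.2
    omega
  have hB : ∀ R R', s2 R → s4 R' → Up F R ≤ Cp F R' ∧ Up F R' ≤ Cp F R := fun R R' h h' => by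
    refine c.tv_up hT (a2 R h).2.2.1 h'.1 (hO R R' h h') fun h1 => c.ne_top h.1 ((Subgroup.eq_top_iff' R).2 fun g => ?_)
    obtain ⟨h2, -, R'', h3, h4⟩ := a4 R' h'
    obtain ⟨a, ha, h5⟩ := h3.dec c h2 h4 g
    rw [← mul_inv_cancel_left a g]
    exact R.mul_mem (c.om_le_symm h.1 (hO R R'' h ⟨h3.es, h3.idx⟩) ha) (h1 h5)
  obtain ⟨R, hR, R', hR', e0⟩ : ∃ R, s2 R ∧ ∃ R', s2 R' ∧ ¬ Om R' ≤ R := by
    by_contra h1
    push Not at h1
    obtain ⟨R, hR, h2⟩ : ∃ R, Es F R ∧ y ∉ Cp F R := by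
      by_contra h2
      push Not at h2
      exact y1 (c.eq_one h2)
    refine c.not_fam (fun _ h => h.1) t2 (fun Q' hQ' => ?_) ((h24 R hR).resolve_right fun h => h2 (a4 R h).2.1)
    rcases h24 Q' hQ' with h3 | h3
    · exact ⟨fun R hR => h1 Q' h3 R hR, Or.inl h3⟩
    · exact ⟨fun R hR => hO R Q' hR h3, Or.inr fun R hR => (hB R Q' hR h3).1⟩
  have e : E2 F R R' := ⟨(a2 R hR).2.2.1, (a2 R' hR').2.2.1, e0⟩
  obtain ⟨a, ha, b, hb, aR', bR, hab⟩ := e.exists_ab hS c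
  have hab' : br a b = y := ((a2 R' hR').2.2.2 a b hb).resolve_left fun h => hab (h ▸ (Cp F R).one_mem)
  have sP : s4 P := ⟨hP.es, hP.idx⟩
  have sQ : s4 Q := ⟨hQ.es, hQ.idx⟩
  set H := Us F s2 ⊔ Us F s4 with hH
  have hn : (Zc G).Normal := inferInstance
  have o1 : ∀ R, Es F R → Om R ≤ H ⊔ Zc G := fun R hR => by
    rcases h24 R hR with h | h
    · exact ((a2 R h).2.2.1.sp hS c (by norm_num)).2.2.trans (sup_le_sup_right ((le_us h).trans le_sup_left) _)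
    · exact ((a4 R h).1.sp hS c le_rfl).2.2.trans (sup_le_sup_right ((le_us h).trans le_sup_right) _)
  have o2 : P ⊓ Q ⊓ R' ⊓ R ≤ Zc G := by
    have d1 := dbl' (A := P ⊓ Q) ⟨(a2 R hR).1 ha, (a2 R hR).2.1 ha⟩ aR'
    have d2 := dbl' (A := P ⊓ Q ⊓ R') ⟨⟨(a2 R' hR').1 hb, (a2 R' hR').2.1 hb⟩, hb.1⟩ bR
    have h4 := hP.card_inf hQ he
    exact (Subgroup.eq_of_le_of_card_ge (le_inf (le_inf (le_inf (c.zle hP.es) (c.zle hQ.es)) (c.zle hR'.1))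
      (c.zle hR.1)) (by omega)).ge
  have o3 : ∀ g, g ∈ H ⊔ Zc G := fun g => by
    obtain ⟨a₁, ha₁, b₁, hb₁, w, h1, h2, rfl⟩ := hP.dec2 c hQ he g
    obtain ⟨a₂, ha₂, b₂, hb₂, w', h3, h4, h5⟩ := e.l.dec2 c e.r e.e w
    have h6 : w' = (a₂ * b₂)⁻¹ * w := by rw [h5, inv_mul_cancel_left]
    have h7 : w' ∈ Zc G := o2 ⟨⟨⟨h6 ▸ P.mul_mem (P.inv_mem (P.mul_mem ((a2 R hR).1 ha₂) ((a2 R' hR').1 hb₂))) h1,
      h6 ▸ Q.mul_mem (Q.inv_mem (Q.mul_mem ((a2 R hR).2.1 ha₂) ((a2 R' hR').2.1 hb₂))) h2⟩, h4⟩, h3⟩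
    rw [h5]
    exact Subgroup.mul_mem _ (Subgroup.mul_mem _ (o1 P hP.es ha₁) (o1 Q hQ.es hb₁))
      (Subgroup.mul_mem _ (Subgroup.mul_mem _ (o1 R hR.1 ha₂) (o1 R' hR'.1 hb₂)) (Subgroup.mem_sup_right h7))
  have o4 : ∀ g g', br g g' ∈ H := fun g g' => by
    obtain ⟨h, hh, z, hz, rfl⟩ := Subgroup.mem_sup_of_normal_right.1 (o3 g)
    obtain ⟨h', hh', z', hz', rfl⟩ := Subgroup.mem_sup_of_normal_right.1 (o3 g')
    rw [br_mul_left c.cl, br_zl hz, mul_one, br_mul_right c.cl, br_zr hz', mul_one]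
    exact H.mul_mem (H.mul_mem (H.mul_mem hh hh') (H.inv_mem hh)) (H.inv_mem hh')
  have o5 : Zc G ≤ H := by
    obtain ⟨t, ht⟩ := c.exists_not_mem hP.es
    have d1 := dbl (A := Wt c P t) (B := H ⊓ Zc G) (le_inf (by
      rintro _ ⟨x, -, rfl⟩
      exact o4 t x) (wt_le c P t)) ⟨hab' ▸ o4 a b, yZ⟩ (by
      rintro ⟨x, hx, h1⟩
      have h2 : br t x = y := h1
      exact y1 (h2 ▸ (hP.sp hS c le_rfl).1 t x hx (h2 ▸ yP)))
    rw [hP.card_wt c ht] at d1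
    exact inf_eq_right.1 (Subgroup.eq_of_le_of_card_ge inf_le_right (by omega))
  have o6 : ∀ g, g ∈ H := fun g => sup_le le_rfl o5 (o3 g)
  have hcomm : ∀ x ∈ Us F s2, ∀ x' ∈ Us F s4, x * x' = x' * x := fun x hx x' hx' => by
    refine Subgroup.mem_centralizer_singleton_iff.1 (us_le (K := Subgroup.centralizer {x'}) (fun R₁ h₁ u hu => ?_) hx)
    refine Subgroup.mem_centralizer_singleton_iff.2 (Subgroup.mem_centralizer_singleton_iff.1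
      (us_le (K := Subgroup.centralizer {u}) (fun R₂ h₂ u' hu' => ?_) hx')).symm
    exact Subgroup.mem_centralizer_singleton_iff.2
      (om_comm (c.up_le_om h₂.1 hu') (hO R₁ R₂ h₁ h₂ (c.up_le_om h₁.1 hu))).symm
  refine ⟨Us F s2, Us F s4, fun h => c.up_ne_bot hR.1 (le_bot_iff.1 (h ▸ le_us hR)),
    fun h => c.up_ne_bot hP.es (le_bot_iff.1 (h ▸ le_us sP)), (Subgroup.eq_bot_iff_forall _).2 fun x hx => ?_,
    le_antisymm (sup_le (us_le fun R _ => up_le_hyp R) (us_le fun R _ => up_le_hyp R)) fun g _ => o6 g, hcomm,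
    fun P' f hf x hx => ⟨c.closed_us t2 (fun Q' hQ' => (h24 Q' hQ').imp_right fun h R hR => (hB R Q' hR h).1) hf.1 hx,
      c.closed_us t4 (fun Q' hQ' => (h24 Q' hQ').symm.imp_right fun h R hR => (hB Q' R h hR).2) hf.1 hx⟩⟩
  have h0 : H ≤ Subgroup.centralizer {x} :=
    sup_le (fun u hu => Subgroup.mem_centralizer_singleton_iff.2 (hcomm u hu x hx.2))
      (fun u hu => Subgroup.mem_centralizer_singleton_iff.2 (hcomm x hx.1 u hu).symm)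
  have h1 : x ∈ Zc G := Subgroup.mem_center_iff.2 fun g => Subgroup.mem_centralizer_singleton_iff.1 (h0 (o6 g))
  refine (hy x h1 (us_le (fun R₁ h₁ => (hB R₁ P h₁ sP).1) hx.1)).resolve_right fun h2 => hab ?_
  rw [hab', ← h2]
  exact us_le (fun R₂ h₂ => (hB R R₂ hR h₂).2) hx.2

/-- **class two at the order `2 ^ 9`** -/
theorem boxC2_of {R₁ R₂ : ℕ} (hT : BoxTV) (hS : BoxSp) (hD : BoxD8 R₁) (hU : BoxUT R₂) : BoxC2 R₁ R₂ := by
  intro G _ _ hc h2 F hF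
  have c : Cx F := ⟨IsPGroup.of_card hc, h2, hF.toHy0⟩
  by_cases h : W2 F
  · exact Or.inl (h.d8 hD hT hS c hc)
  · unfold W2 at h
    push Not at h
    obtain ⟨P, Q, hP, hQ, he, h1⟩ := h
    rcases c.edge hc.le hQ hP he with ⟨-, h3⟩ | ⟨h3, h4⟩ | ⟨h3, h4, h5⟩
    · exact (h1 h3).elim
    · exact (hF.nd (h4.dec4 hT hS c hc h3 he)).elim
    · exact Or.inr (c.ut hU hc h4 h3 he h5)

end Cfsg.Agent.FS.N.C2
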